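import Groth.Agent.Lib.TrigSplit28.Basic
import Groth.Prelude.Def_Dyn
import Mathlib.RingTheory.HopfAlgebra.Convolution

/-!
# Conjugation by a rational point
-/

set_option autoImplicit false
set_option linter.style.haveILetI false

universe u

open TensorProduct WithConv

noncomputable section

namespace Groth.Agent.SectConj28

variable {k : Type u} [Field k] {A : Type u} [CommRing A] [HopfAlgebra k A]
  {R : Type u} [CommRing R] [Algebra k R]

/-- A rational point read over `R`. -/
def up (R : Type u) [CommRing R] [Algebra k R] (u : WithConv (A →ₐ[k] k)) : WithConv (A →ₐ[k] R) :=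
  toConv ((Algebra.ofId k R).comp u.ofConv)

theorem up_apply (u : WithConv (A →ₐ[k] k)) (a : A) : (up R u) a = algebraMap k R (u a) := rfl

theorem up_one : up R (1 : WithConv (A →ₐ[k] k)) = 1 := by
  apply ofConv_injective
  exact AlgHom.ext fun a => rfl

theorem up_mul (u v : WithConv (A →ₐ[k] k)) : up R (u * v) = up R u * up R v := by
  apply ofConv_injective
  exact AlgHom.comp_convMul_distrib _ u v

theorem up_inv (u : WithConv (A →ₐ[k] k)) : up R u⁻¹ = (up R u)⁻¹ := by
  refine eq_inv_of_mul_eq_one_left ?_
  rw [← up_mul, inv_mul_cancel, up_one]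

theorem comp_up {S : Type u} [CommRing S] [Algebra k S] (f : R →ₐ[k] S) (u : WithConv (A →ₐ[k] k)) :
    toConv (f.comp (up R u).ofConv) = up S u := by
  apply ofConv_injective
  exact AlgHom.ext fun a => f.commutes _

/-- Composition with an algebra map, as a homomorphism of convolution monoids. -/
def post {S : Type u} [CommRing S] [Algebra k S] (f : R →ₐ[k] S) :
    WithConv (A →ₐ[k] R) →* WithConv (A →ₐ[k] S) where
  toFun x := toConv (f.comp x.ofConv)
  map_one' := by apply ofConv_injective; exact AlgHom.ext fun a => f.commutes _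
  map_mul' x y := by apply ofConv_injective; exact AlgHom.comp_convMul_distrib f x y

theorem comul_eq_mul :
    toConv (Bialgebra.comulAlgHom k A) =
      toConv (Algebra.TensorProduct.includeLeft : A →ₐ[k] A ⊗[k] A) *
        toConv (Algebra.TensorProduct.includeRight : A →ₐ[k] A ⊗[k] A) := by
  apply ofConv_injective
  refine AlgHom.ext fun a => ?_
  rw [AlgHom.convMul_apply]
  show CoalgebraStruct.comul (R := k) a = _
  induction CoalgebraStruct.comul (R := k) a with
  | zero => simp
  | add p q hp hq => simp only [map_add, ← hp, ← hq]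
  | tmul p q => simp

/-- Conjugation by `u`, as a map of coordinate rings. -/
def conjAlg (u : WithConv (A →ₐ[k] k)) : A →ₐ[k] A :=
  (up A u * toConv (AlgHom.id k A) * (up A u)⁻¹).ofConv

theorem comp_conjAlg (u : WithConv (A →ₐ[k] k)) (f : A →ₐ[k] R) :
    toConv (f.comp (conjAlg u)) = up R u * toConv f * (up R u)⁻¹ := by
  show post f (up A u * toConv (AlgHom.id k A) * (up A u)⁻¹) = _
  rw [map_mul, map_mul, map_inv]
  show toConv (f.comp (up A u).ofConv) * toConv (f.comp (AlgHom.id k A)) * (toConv (f.comp (up A u).ofConv))⁻¹ = _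
  rw [comp_up, AlgHom.comp_id]

/-- Conjugation by `u` is an endomorphism of the Hopf algebra. -/
def conjHom (u : WithConv (A →ₐ[k] k)) : A →ₐc[k] A :=
  BialgHom.ofAlgHom (conjAlg u)
    (by
      apply toConv_injective
      rw [comp_conjAlg, show toConv (Bialgebra.counitAlgHom k A) = (1 : WithConv (A →ₐ[k] k)) from
        ofConv_injective (AlgHom.ext fun a => rfl), mul_one, mul_inv_cancel])
    (by
      apply toConv_injective
      rw [comp_conjAlg, comul_eq_mul]
      show post (Algebra.TensorProduct.map (conjAlg u) (conjAlg u)) (toConv (Bialgebra.comulAlgHom k A)) = _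
      rw [comul_eq_mul, map_mul]
      show toConv ((Algebra.TensorProduct.map (conjAlg u) (conjAlg u)).comp Algebra.TensorProduct.includeLeft) *
        toConv ((Algebra.TensorProduct.map (conjAlg u) (conjAlg u)).comp Algebra.TensorProduct.includeRight) = _
      rw [show (Algebra.TensorProduct.map (conjAlg u) (conjAlg u)).comp Algebra.TensorProduct.includeLeft =
          (Algebra.TensorProduct.includeLeft : A →ₐ[k] A ⊗[k] A).comp (conjAlg u) from
            AlgHom.ext fun a => by simp,
        show (Algebra.TensorProduct.map (conjAlg u) (conjAlg u)).comp Algebra.TensorProduct.includeRight =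
          (Algebra.TensorProduct.includeRight : A →ₐ[k] A ⊗[k] A).comp (conjAlg u) from
            AlgHom.ext fun a => by simp,
        comp_conjAlg, comp_conjAlg]
      group)

theorem toConv_comp_conjHom {B : Type u} [CommRing B] [HopfAlgebra k B] (u : WithConv (A →ₐ[k] k))
    (r : A →ₐc[k] B) : toConv ((r.comp (conjHom u) : A →ₐc[k] B) : A →ₐ[k] B) =
      up B u * toConv (r : A →ₐ[k] B) * (up B u)⁻¹ :=
  comp_conjAlg u (r : A →ₐ[k] B)

theorem conv3_eq (a b c : A →ₐ[k] R) : toConv (Dyn.conv3 k A a b c) = toConv a * toConv b * toConv c := by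
  apply ofConv_injective
  refine AlgHom.ext fun x => ?_
  rw [AlgHom.convMul_apply]
  simp only [Dyn.conv3, AlgHom.comp_apply, ofConv_toConv, AlgHom.convMul_def]
  rw [show CoalgebraStruct.comul (R := k) x = Bialgebra.comulAlgHom k A x from rfl]
  generalize Bialgebra.comulAlgHom k A x = z
  induction z with
  | zero => simp
  | add p q hp hq => simp only [map_add, hp, hq]
  | tmul p q => simp

end Groth.Agent.SectConj28
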