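import Groth.Agent.Lib.SectConj28.Conjug
import Groth.Agent.Lib.TrigSplit28.Main

/-!
# Lifting primitive elements of the unipotent kernel to skew primitive elements
-/

set_option autoImplicit false
set_option linter.style.haveILetI false

universe u

open TensorProduct WithConv

noncomputable section

namespace Groth.Agent.SectConj28

open Groth.Agent.TrigSplit28

variable {k : Type u} [Field k] {Q : Type u} [CommRing Q] [HopfAlgebra k Q] {M : Type u} [CommGroup M]

/-- Precomposition with a bialgebra map, as a homomorphism of convolution monoids. -/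
def pre {B R : Type u} [CommRing B] [HopfAlgebra k B] [CommRing R] [Algebra k R] (f : B →ₐc[k] Q) :
    WithConv (Q →ₐ[k] R) →* WithConv (B →ₐ[k] R) where
  toFun x := toConv (x.ofConv.comp (f : B →ₐ[k] Q))
  map_one' := by
    apply ofConv_injective
    refine AlgHom.ext fun a => ?_
    show algebraMap k R (CoalgebraStruct.counit (R := k) (f a)) = algebraMap k R (CoalgebraStruct.counit (R := k) a)
    rw [CoalgHomClass.counit_comp_apply]
  map_mul' x y := by apply ofConv_injective; exact AlgHom.convMul_comp_bialgHom_distrib x y f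

theorem pre_inv {B R : Type u} [CommRing B] [HopfAlgebra k B] [CommRing R] [Algebra k R] (f : B →ₐc[k] Q)
    (x : WithConv (Q →ₐ[k] R)) : pre f x⁻¹ = (pre f x)⁻¹ :=
  eq_inv_of_mul_eq_one_left (by rw [← map_mul, inv_mul_cancel, map_one])

theorem post_inv {R S : Type u} [CommRing R] [Algebra k R] [CommRing S] [Algebra k S] (f : R →ₐ[k] S)
    (x : WithConv (Q →ₐ[k] R)) : post f x⁻¹ = (post f x)⁻¹ :=
  eq_inv_of_mul_eq_one_left (by rw [← map_mul, inv_mul_cancel, map_one])

theorem pre_post {B R S : Type u} [CommRing B] [HopfAlgebra k B] [CommRing R] [Algebra k R] [CommRing S]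
    [Algebra k S] (g : B →ₐc[k] Q) (f : R →ₐ[k] S) (x : WithConv (Q →ₐ[k] R)) :
    pre g (post f x) = post f (pre g x) := rfl

/-- Inversion on the group algebra. -/
def invHom : MonoidAlgebra k M →ₐc[k] MonoidAlgebra k M :=
  MonoidAlgebra.mapDomainBialgHom k (invMonoidHom : M →* M)

variable (ι : MonoidAlgebra k M →ₐc[k] Q) (r : Q →ₐc[k] MonoidAlgebra k M)

/-- Projection to the kernel along a retraction. -/
def lam : WithConv (Q →ₐ[k] Q) :=
  toConv (AlgHom.id k Q) * toConv (((ι.comp invHom).comp r : Q →ₐc[k] Q) : Q →ₐ[k] Q)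

theorem lam_ι (hr : r.comp ι = BialgHom.id k (MonoidAlgebra k M)) : pre ι (lam ι r) = 1 := by
  apply ofConv_injective
  refine MonoidAlgebra.algHom_ext (fun m => ?_) (Subsingleton.elim _ _)
  have hm := (MonoidAlgebra.isGroupLikeElem_single_one (R := k) m).map ι
  show lam ι r (ι (MonoidAlgebra.single m 1)) = algebraMap k Q (CoalgebraStruct.counit (R := k) (MonoidAlgebra.single m (1 : k)))
  rw [lam, AlgHom.convMul_apply, hm.comul_eq_tmul_self, Algebra.TensorProduct.lift_tmul, counit_single, map_one]
  show ι (MonoidAlgebra.single m 1) * ι (invHom (r (ι (MonoidAlgebra.single m 1)))) = 1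
  rw [show r (ι (MonoidAlgebra.single m 1)) = MonoidAlgebra.single m 1 from DFunLike.congr_fun hr _,
    invHom, MonoidAlgebra.mapDomainBialgHom_single, ← map_mul, MonoidAlgebra.single_mul_single,
    invMonoidHom_apply, mul_inv_cancel, one_mul, ← MonoidAlgebra.one_def, map_one]

set_option maxHeartbeats 1600000 in
/-- A primitive element of the kernel is a sum of images of skew primitive elements. -/
theorem exists_lift (hι : Function.Injective ι) (hr : r.comp ι = BialgHom.id k (MonoidAlgebra k M))
    (J : Ideal Q) [J.IsHopfIdeal k]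
    (hJ : J = Ideal.map (ι : MonoidAlgebra k M →+* Q) (RingHom.ker (Bialgebra.counitAlgHom k (MonoidAlgebra k M))))
    (w : Q ⧸ J) (hw : CoalgebraStruct.comul (R := k) w = w ⊗ₜ[k] 1 + 1 ⊗ₜ[k] w) :
    ∃ (T : Finset M) (y : M → Q),
      (∀ g, CoalgebraStruct.comul (R := k) (y g) = ι (MonoidAlgebra.single g 1) ⊗ₜ[k] y g + y g ⊗ₜ[k] 1) ∧
      w = ∑ g ∈ T, Ideal.Quotient.mkₐ k J (y g) := by
  classical
  let p : Q →ₐ[k] Q ⧸ J := Ideal.Quotient.mkₐ k J
  let iL : Q →ₐ[k] Q ⊗[k] Q := Algebra.TensorProduct.includeLeft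
  let iR : Q →ₐ[k] Q ⊗[k] Q := Algebra.TensorProduct.includeRight
  let τ0 : MonoidAlgebra k M →ₐc[k] Q := ι.comp invHom
  let τ : WithConv (Q →ₐ[k] Q) := toConv ((τ0.comp r : Q →ₐc[k] Q) : Q →ₐ[k] Q)
  have hlam : lam ι r = toConv (AlgHom.id k Q) * τ := rfl
  -- factorisation of the comultiplication of a projected element
  let jB : Q →ₐ[k] MonoidAlgebra k M ⊗[k] Q :=
    (Algebra.TensorProduct.includeLeft).comp ((invHom.comp r : Q →ₐc[k] MonoidAlgebra k M) : Q →ₐ[k] MonoidAlgebra k M)
  let Φ₀ : WithConv (Q →ₐ[k] MonoidAlgebra k M ⊗[k] Q) :=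
    (toConv jB)⁻¹ * post (Algebra.TensorProduct.includeRight) (lam ι r) * toConv jB
  let m1 : MonoidAlgebra k M ⊗[k] Q →ₐ[k] Q ⊗[k] Q :=
    Algebra.TensorProduct.map (ι : MonoidAlgebra k M →ₐ[k] Q) (AlgHom.id k Q)
  have hjB : post m1 (toConv jB) = post iL τ := by
    apply ofConv_injective
    refine AlgHom.ext fun a => ?_
    show m1 (invHom (r a) ⊗ₜ[k] (1 : Q)) = (ι (invHom (r a))) ⊗ₜ[k] (1 : Q)
    simp [m1]
  have hjR : post m1 (post (Algebra.TensorProduct.includeRight) (lam ι r)) = post iR (lam ι r) := by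
    apply ofConv_injective
    refine AlgHom.ext fun a => ?_
    show m1 ((1 : MonoidAlgebra k M) ⊗ₜ[k] lam ι r a) = (1 : Q) ⊗ₜ[k] lam ι r a
    simp [m1]
  have hΦ : post m1 Φ₀ = (post iL τ)⁻¹ * post iR (lam ι r) * post iL τ := by
    rw [map_mul, map_mul, post_inv, hjB, hjR]
  have hcomm : post iR τ * post iL τ = post iL τ * post iR τ := by
    have e : ∀ f : Q →ₐ[k] Q ⊗[k] Q, post f τ = pre r (toConv (f.comp (τ0 : MonoidAlgebra k M →ₐ[k] Q))) := fun f => rfl
    rw [e, e, ← map_mul, ← map_mul]
    congr 1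
    apply ofConv_injective
    refine MonoidAlgebra.algHom_ext (fun m => ?_) (Subsingleton.elim _ _)
    rw [AlgHom.convMul_apply, AlgHom.convMul_apply,
      (MonoidAlgebra.isGroupLikeElem_single_one (R := k) m).comul_eq_tmul_self,
      Algebra.TensorProduct.lift_tmul, Algebra.TensorProduct.lift_tmul]
    exact mul_comm _ _
  have hΔτ : post (Bialgebra.comulAlgHom k Q) τ = post iL τ * post iR τ := by
    show toConv ((Bialgebra.comulAlgHom k Q).comp ((τ0.comp r : Q →ₐc[k] Q) : Q →ₐ[k] Q)) = _
    show pre (τ0.comp r) (toConv (Bialgebra.comulAlgHom k Q)) = _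
    rw [comul_eq_mul, map_mul]
    rfl
  have hΔlam : post (Bialgebra.comulAlgHom k Q) (lam ι r) = post iL (lam ι r) * post m1 Φ₀ := by
    rw [hΦ, hlam, map_mul, map_mul, map_mul, hΔτ, ← hcomm,
      show post (Bialgebra.comulAlgHom k Q) (toConv (AlgHom.id k Q)) =
        post iL (toConv (AlgHom.id k Q)) * post iR (toConv (AlgHom.id k Q)) from comul_eq_mul]
    group
  -- both factors descend to the kernel
  have hpreB : pre ι Φ₀ = 1 := by
    have h1 : pre ι (post (Algebra.TensorProduct.includeRight : Q →ₐ[k] MonoidAlgebra k M ⊗[k] Q) (lam ι r)) = 1 := by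
      rw [pre_post, lam_ι ι r hr, map_one]
    show pre ι ((toConv jB)⁻¹ * _ * toConv jB) = 1
    rw [map_mul, map_mul, pre_inv, h1]
    have aux : ∀ {G : Type u} [Group G] (x : G), x⁻¹ * 1 * x = 1 := fun {G} _ x => by group
    exact aux (pre ι (toConv jB))
  have hkill : ∀ {R : Type u} [CommRing R] [Algebra k R] (x : WithConv (Q →ₐ[k] R)), pre ι x = 1 →
      ∀ a ∈ J, x.ofConv a = 0 := by
    intro R _ _ x hx a ha
    rw [hJ] at ha
    refine (Ideal.map_le_iff_le_comap.2 (fun c hc => ?_) : _ ≤ RingHom.ker x.ofConv) ha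
    show x.ofConv (ι c) = 0
    refine (AlgHom.congr_fun (congrArg WithConv.ofConv hx) c).trans ?_
    show algebraMap k R (CoalgebraStruct.counit (R := k) c) = 0
    rw [show CoalgebraStruct.counit (R := k) c = 0 from hc, map_zero]
  let lam' : (Q ⧸ J) →ₐ[k] Q := Ideal.Quotient.liftₐ J (lam ι r).ofConv (hkill _ (lam_ι ι r hr))
  let Φ' : (Q ⧸ J) →ₐ[k] MonoidAlgebra k M ⊗[k] Q := Ideal.Quotient.liftₐ J Φ₀.ofConv (hkill _ hpreB)
  have hsec : ∀ q, p ((lam ι r) q) = p q := by
    intro q
    have : post p (lam ι r) = toConv p := by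
      rw [hlam, map_mul]
      have h1 : post p τ = 1 := by
        apply ofConv_injective
        refine AlgHom.ext fun a => ?_
        show p (ι (invHom (r a))) = algebraMap k _ (CoalgebraStruct.counit (R := k) a)
        have e := TrigSplit28.mk_ι ι (invHom (r a))
        subst hJ
        rw [show p (ι (invHom (r a))) = algebraMap k _ (CoalgebraStruct.counit (R := k) (invHom (r a))) from e,
          CoalgHomClass.counit_comp_apply, CoalgHomClass.counit_comp_apply]
      rw [h1, mul_one]
      rfl
    exact AlgHom.congr_fun (congrArg WithConv.ofConv this) q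
  obtain ⟨q, rfl⟩ := Ideal.Quotient.mk_surjective w
  set e := lam' (Ideal.Quotient.mk J q) with he
  set z := Φ' (Ideal.Quotient.mk J q) with hz0
  have hΔe : CoalgebraStruct.comul (R := k) e = e ⊗ₜ[k] 1 + m1 z := by
    show Bialgebra.comulAlgHom k Q ((lam ι r).ofConv q) = _
    rw [show Bialgebra.comulAlgHom k Q ((lam ι r).ofConv q) = (post (Bialgebra.comulAlgHom k Q) (lam ι r)).ofConv q from rfl,
      hΔlam]
    show (post iL (lam ι r) * post m1 Φ₀) q = _
    rw [AlgHom.convMul_apply]
    have h2 : ∀ v : Q ⊗[k] Q,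
        Algebra.TensorProduct.lift (post iL (lam ι r)).ofConv (post m1 Φ₀).ofConv (fun _ _ => Commute.all _ _) v =
          Algebra.TensorProduct.lift (iL.comp lam') (m1.comp Φ') (fun _ _ => Commute.all _ _)
            (TensorProduct.map p.toLinearMap p.toLinearMap v) := by
      intro v
      induction v with
      | zero => simp
      | add a b ha hb => simp only [map_add, ha, hb]
      | tmul a b => simp only [TensorProduct.map_tmul, Algebra.TensorProduct.lift_tmul]; rfl
    refine (h2 _).trans ?_
    rw [show TensorProduct.map p.toLinearMap p.toLinearMap (CoalgebraStruct.comul (R := k) q) =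
        CoalgebraStruct.comul (R := k) (Ideal.Quotient.mk J q) from
      CoalgHomClass.map_comp_comul_apply (Bialgebra.Quotient.mkBialgHom (R := k) J) q, hw, map_add,
      Algebra.TensorProduct.lift_tmul, Algebra.TensorProduct.lift_tmul, map_one, map_one, mul_one, one_mul]
    rfl
  -- slices
  obtain ⟨S, hS⟩ := TensorProduct.exists_finset z
  let cf : M → MonoidAlgebra k M →ₗ[k] k := fun g =>
    { toFun := fun x => x.coeff g, map_add' := fun x y => by simp, map_smul' := fun r x => by simp }
  let yg : M → Q := fun g => ∑ j ∈ S, cf g j.1 • j.2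
  have hm1 : m1 z = ∑ j ∈ S, ι j.1 ⊗ₜ[k] j.2 := by
    rw [hS, map_sum]
    exact Finset.sum_congr rfl fun j _ => rfl
  let T : Finset M := S.biUnion fun j => j.1.coeff.support
  refine ⟨T, yg, fun g => ?_, ?_⟩
  · obtain ⟨L, hL⟩ := (ι : MonoidAlgebra k M →ₗ[k] Q).exists_leftInverse_of_injective (LinearMap.ker_eq_bot.2 hι)
    let f : Q →ₗ[k] k := cf g ∘ₗ L
    have hf : ∀ b, f (ι b) = cf g b := fun b => congrArg (cf g) (LinearMap.congr_fun hL b)
    let Sf := ((TensorProduct.lid k Q).toLinearMap ∘ₗ f.rTensor Q) ∘ₗ CoalgebraStruct.comul (R := k)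
    have hSe : Sf e = f e • 1 + yg g := by
      simp only [Sf, LinearMap.comp_apply, LinearEquiv.coe_coe, hΔe, hm1, map_add, map_sum, LinearMap.rTensor_tmul,
        TensorProduct.lid_tmul, hf]
      rfl
    have hSι : ∀ b, Sf (ι b) = cf g b • ι (MonoidAlgebra.single g 1) := by
      intro b
      show TensorProduct.lid k _ (f.rTensor _ (CoalgebraStruct.comul (R := k) (ι b))) = _
      rw [map_comul]
      induction b using MonoidAlgebra.induction_linear with
      | zero => simp
      | add a b ha hb => simp only [map_add, ha, hb, add_smul]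
      | single m r =>
        rw [show MonoidAlgebra.single m r = r • MonoidAlgebra.single m (1 : k) by simp, map_smul, map_smul, map_smul,
          map_smul, map_smul, (MonoidAlgebra.isGroupLikeElem_single_one m).comul_eq_tmul_self,
          TensorProduct.map_tmul, LinearMap.rTensor_tmul, TensorProduct.lid_tmul, smul_eq_mul, mul_smul]
        show r • f (ι (MonoidAlgebra.single m 1)) • ι (MonoidAlgebra.single m (1 : k)) = _
        rw [hf]
        congr 1
        by_cases hm : m = g
        · rw [hm]
        · have : cf g (MonoidAlgebra.single m (1 : k)) = 0 := by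
            show (MonoidAlgebra.single m (1 : k)).coeff g = 0
            rw [MonoidAlgebra.coeff_single, Finsupp.single_eq_of_ne (Ne.symm hm)]
          rw [this, zero_smul, zero_smul]
    have h1 : CoalgebraStruct.comul (R := k) (Sf e) = Sf.rTensor Q (CoalgebraStruct.comul (R := k) e) :=
      comul_slice f e
    rw [hSe, map_add, map_smul, Bialgebra.comul_one, Algebra.TensorProduct.one_def, hΔe, hm1, map_add, map_sum (Sf.rTensor Q),
      LinearMap.rTensor_tmul, hSe, TensorProduct.add_tmul, ← TensorProduct.smul_tmul', add_assoc, add_right_inj] at h1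
    rw [h1, add_comm]
    congr 1
    show _ = ι (MonoidAlgebra.single g 1) ⊗ₜ[k] ∑ j ∈ S, cf g j.1 • j.2
    rw [TensorProduct.tmul_sum]
    refine Finset.sum_congr rfl fun j _ => ?_
    rw [LinearMap.rTensor_tmul, hSι, TensorProduct.smul_tmul]
  · have hεw : CoalgebraStruct.counit (R := k) e = 0 := by
      have h := congrArg (TensorProduct.lid k (Q ⧸ J)) (Coalgebra.rTensor_counit_comul (R := k) (Ideal.Quotient.mk J q))
      rw [hw, map_add, map_add, LinearMap.rTensor_tmul, LinearMap.rTensor_tmul, TensorProduct.lid_tmul,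
        TensorProduct.lid_tmul, TensorProduct.lid_tmul, Bialgebra.counit_one, one_smul, add_eq_right] at h
      have h2 := congrArg (CoalgebraStruct.counit (R := k)) h
      rw [map_smul, Bialgebra.counit_one, smul_eq_mul, mul_one, map_zero] at h2
      have e2 : p e = Ideal.Quotient.mk J q := hsec q
      rw [← e2] at h2
      exact (CoalgHomClass.counit_comp_apply (Bialgebra.Quotient.mkBialgHom (R := k) J) e).symm.trans h2
    have hc := congrArg (TensorProduct.lid k Q) (Coalgebra.rTensor_counit_comul (R := k) e)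
    rw [hΔe, hm1] at hc
    simp only [map_add, map_sum, LinearMap.rTensor_tmul, TensorProduct.lid_tmul, hεw, zero_smul, zero_add,
      one_smul] at hc
    have : ∀ j ∈ S, CoalgebraStruct.counit (R := k) (ι j.1) = ∑ g ∈ T, cf g j.1 := by
      intro j hj
      rw [CoalgHomClass.counit_comp_apply ι]
      show _ = ∑ g ∈ T, j.1.coeff g
      rw [← Finset.sum_subset (Finset.subset_biUnion_of_mem (fun j => j.1.coeff.support) hj)
        (fun g _ hg => Finsupp.notMem_support_iff.1 hg)]
      clear hj
      generalize j.1 = x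
      induction x using MonoidAlgebra.induction_linear with
      | zero => simp
      | add a b ha hb =>
        rw [map_add, ha, hb, MonoidAlgebra.coeff_add]
        exact (Finsupp.sum_add_index' (h := fun _ r => r) (fun _ => rfl) (fun _ _ _ => rfl)).symm
      | single m r =>
        rw [counit_single, MonoidAlgebra.coeff_single]
        exact (Finsupp.sum_single_index (h := fun _ r => r) rfl).symm
    rw [Finset.sum_congr rfl fun j hj => by rw [this j hj, Finset.sum_smul], Finset.sum_comm] at hc
    rw [← map_sum, hc]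
    exact (hsec q).symm

end Groth.Agent.SectConj28
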