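import Groth.Agent.Lib.SectConj28.Select

/-!
# Conjugacy of the sections of an extension of a diagonalizable group by a unipotent one
-/

set_option autoImplicit false
set_option linter.style.haveILetI false

universe u

open TensorProduct WithConv HopfRep Polynomial

noncomputable section

namespace Groth.Agent.SectConj28

open Groth.Agent.TrigSplit28

variable {k : Type u} [Field k] {A : Type u} [CommRing A] [HopfAlgebra k A] {M : Type u} [CommGroup M]

/-- An additive homogeneous polynomial on a multiple of `χ - 1`. -/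
theorem sum_skew {n : ℕ} (a : ℕ → k) (h0 : a 0 = 0)
    (hbin : ∀ i ≤ n, ∀ j, 0 < j → j < i → a i * (i.choose j : k) = 0) {S : Type u} [CommRing S] [Algebra k S]
    (χ : S) (hhom : ∀ i ≤ n, a i = 0 ∨ χ ^ i = χ ^ n) (b : k) :
    ∑ i ∈ Finset.range (n + 1), a i • (b • (χ - 1)) ^ i =
      (∑ i ∈ Finset.range (n + 1), a i * b ^ i) • (χ ^ n - 1) := by
  have hadd := fun x y : S => additive_of_choose (S := S) a h0 hbin x y
  rw [smul_sub, sub_eq_add_neg, hadd, Finset.sum_congr rfl (fun i hi =>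
    show a i • (b • χ) ^ i = (a i * b ^ i) • χ ^ n by
      rw [_root_.smul_pow, smul_smul]
      rcases hhom i (Nat.lt_succ_iff.1 (Finset.mem_range.1 hi)) with h | h
      · rw [h, zero_mul, zero_smul, zero_smul]
      · rw [h]), ← Finset.sum_smul, smul_sub]
  have hneg := hadd (b • (1 : S)) (-(b • (1 : S)))
  rw [add_neg_cancel, Finset.sum_eq_single 0 (fun i _ hi => by rw [zero_pow hi, smul_zero]) (by simp), h0,
    zero_smul] at hneg
  rw [eq_neg_of_add_eq_zero_right hneg.symm, sub_eq_add_neg]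
  congr 2
  rw [Finset.sum_smul]
  exact Finset.sum_congr rfl fun i _ => by rw [_root_.smul_pow, one_pow, smul_smul]

theorem sum_sub {n : ℕ} (a : ℕ → k) (h0 : a 0 = 0)
    (hbin : ∀ i ≤ n, ∀ j, 0 < j → j < i → a i * (i.choose j : k) = 0) (x y : k) :
    ∑ i ∈ Finset.range (n + 1), a i * (x - y) ^ i =
      ∑ i ∈ Finset.range (n + 1), a i * x ^ i - ∑ i ∈ Finset.range (n + 1), a i * y ^ i := by
  have h := additive_of_choose (S := k) a h0 hbin (x - y) y
  simp only [sub_add_cancel, smul_eq_mul] at h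
  exact eq_sub_of_add_eq h.symm

/-- A descended bialgebra map. -/
def descend (I : Ideal A) [I.IsHopfIdeal k] {B : Type u} [CommRing B] [HopfAlgebra k B] (r : A →ₐc[k] B)
    (hr : ∀ a ∈ I, r a = 0) : A ⧸ I →ₐc[k] B :=
  BialgHom.ofAlgHom (Ideal.Quotient.liftₐ I (r : A →ₐ[k] B) hr)
    (AlgHom.ext fun q => by
      obtain ⟨a, rfl⟩ := Ideal.Quotient.mk_surjective q
      show CoalgebraStruct.counit (R := k) (r a) = _
      rw [CoalgHomClass.counit_comp_apply]
      exact (CoalgHomClass.counit_comp_apply (Bialgebra.Quotient.mkBialgHom (R := k) I) a).symm)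
    (AlgHom.ext fun q => by
      obtain ⟨a, rfl⟩ := Ideal.Quotient.mk_surjective q
      show Algebra.TensorProduct.map _ _ (CoalgebraStruct.comul (R := k) (Bialgebra.Quotient.mkBialgHom (R := k) I a)) =
        CoalgebraStruct.comul (R := k) (r a)
      rw [TrigSplit28.map_comul, TrigSplit28.map_comul]
      induction CoalgebraStruct.comul (R := k) a with
      | zero => simp
      | add p q hp hq => simp only [map_add, hp, hq]
      | tmul p q => rfl)

theorem descend_mk (I : Ideal A) [I.IsHopfIdeal k] {B : Type u} [CommRing B] [HopfAlgebra k B] (r : A →ₐc[k] B)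
    (hr : ∀ a ∈ I, r a = 0) (a : A) : descend I r hr (Ideal.Quotient.mk I a) = r a := rfl

/-- `r''` is the conjugate of `r'` by a point of the kernel. -/
def IsConj (ψ : MonoidAlgebra k M →ₐc[k] A) (r' r'' : A →ₐc[k] MonoidAlgebra k M) : Prop :=
  ∃ u : WithConv (A →ₐ[k] k), pre ψ u = 1 ∧
    toConv (r'' : A →ₐ[k] MonoidAlgebra k M) =
      up _ u * toConv (r' : A →ₐ[k] MonoidAlgebra k M) * (up _ u)⁻¹

theorem isConj_refl (ψ : MonoidAlgebra k M →ₐc[k] A) (r : A →ₐc[k] MonoidAlgebra k M) : IsConj ψ r r :=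
  ⟨1, map_one _, by rw [up_one]; group⟩

theorem IsConj.trans {ψ : MonoidAlgebra k M →ₐc[k] A} {r r' r'' : A →ₐc[k] MonoidAlgebra k M}
    (h : IsConj ψ r r') (h' : IsConj ψ r' r'') : IsConj ψ r r'' := by
  obtain ⟨u, hu, h1⟩ := h
  obtain ⟨v, hv, h2⟩ := h'
  refine ⟨v * u, by rw [map_mul, hu, hv, mul_one], ?_⟩
  rw [h2, h1, up_mul]
  group

/-- A point over a root of the minimal polynomial. -/
theorem exists_point_eq [IsAlgClosed k] {C : Type u} [CommRing C] [HopfAlgebra k C] [Algebra.FiniteType k C]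
    {z : C} (hz : CoalgebraStruct.comul (R := k) z = z ⊗ₜ[k] 1 + 1 ⊗ₜ[k] z) (b : k)
    (hb : (minpoly k z).eval b = 0) : ∃ g : C →ₐ[k] k, g z = b := by
  set R := Algebra.adjoin k (insert z ((⊥ : Subalgebra k C) : Set C))
  haveI := (isSub_adjoin_prim hz ⊥ isSub_bot).faithfullyFlat
  have hle : R ≤ (aeval (R := k) z).range := by
    refine Algebra.adjoin_le ?_
    rintro r (rfl | hr)
    · exact ⟨X, aeval_X _⟩
    · exact bot_le (α := Subalgebra k C) hr
  let zR : R := ⟨z - algebraMap k C b, sub_mem (Algebra.subset_adjoin (Set.mem_insert _ _)) (R.algebraMap_mem b)⟩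
  have hne : Ideal.span {z - algebraMap k C b} ≠ ⊤ := by
    intro htop
    have h1 : (1 : R) ∈ Ideal.span {zR} := by
      rw [← Ideal.comap_map_eq_self_of_faithfullyFlat (B := C) (Ideal.span {zR}), Ideal.mem_comap, Ideal.map_span,
        Set.image_singleton]
      show (1 : C) ∈ Ideal.span {z - algebraMap k C b}
      rw [htop]
      exact Submodule.mem_top
    obtain ⟨r, hr⟩ := Ideal.mem_span_singleton'.1 h1
    obtain ⟨f, hf⟩ := hle r.2
    have h2 : (r : C) * (z - algebraMap k C b) = 1 := congrArg Subtype.val hr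
    rw [← show aeval z f = (r : C) from hf] at h2
    obtain ⟨q, hq⟩ := minpoly.dvd k z (show aeval z (f * (X - Polynomial.C b) - 1) = 0 by
      rw [map_sub, map_mul, map_sub, aeval_X, aeval_C, map_one, h2, sub_self])
    have h3 := congrArg (Polynomial.eval b) hq
    simp [hb] at h3
  obtain ⟨m, hm, hle'⟩ := Ideal.exists_le_maximal _ hne
  obtain ⟨g, hg⟩ := HopfFlat.exists_point_ker (k := k) m
  refine ⟨g, ?_⟩
  have : z - algebraMap k C b ∈ RingHom.ker g := hg ▸ hle' (Ideal.mem_span_singleton_self _)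
  rw [RingHom.mem_ker, map_sub, AlgHom.commutes, sub_eq_zero] at this
  exact this

set_option maxHeartbeats 4000000 in
/-- Two sections killed on a given Hopf ideal are conjugate. -/
theorem isConj_of_le [IsAlgClosed k] [Algebra.FiniteType k A] (ψ : MonoidAlgebra k M →ₐc[k] A)
    (hψ : Function.Injective ψ) (J : Ideal A) [J.IsHopfIdeal k]
    (hJ : J = Ideal.map (ψ : MonoidAlgebra k M →+* A) (RingHom.ker (Bialgebra.counitAlgHom k (MonoidAlgebra k M))))
    (hU : IsUnipotent k (A ⧸ J)) :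
    ∀ I : Ideal A, I.IsHopfIdeal k → (IsReduced (MonoidAlgebra k M) ∨ (I ⊔ J).IsRadical) →
      ∀ r' r'' : A →ₐc[k] MonoidAlgebra k M, r'.comp ψ = BialgHom.id k (MonoidAlgebra k M) →
        r''.comp ψ = BialgHom.id k (MonoidAlgebra k M) → (∀ a ∈ I, r' a = 0) → (∀ a ∈ I, r'' a = 0) →
        IsConj ψ r' r'' := by
  classical
  haveI : IsNoetherianRing A := Algebra.FiniteType.isNoetherianRing k A
  haveI : Group.FG M := fg_of_injective ψ hψ
  intro I
  induction I using IsNoetherian.induction with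
  | _ I ih =>
  intro hIH hinv r' r'' hr' hr'' hI' hI''
  haveI := hIH
  let π : A →ₐc[k] A ⧸ I := Bialgebra.Quotient.mkBialgHom (R := k) I
  have hπ : Function.Surjective π := Ideal.Quotient.mk_surjective
  let ι : MonoidAlgebra k M →ₐc[k] A ⧸ I := π.comp ψ
  haveI : Algebra.FiniteType k (A ⧸ I) :=
    Algebra.FiniteType.of_surjective (Ideal.Quotient.mkₐ k I) Ideal.Quotient.mk_surjective
  set R' := descend I r' hI' with hR'
  set R'' := descend I r'' hI'' with hR''
  have hι' : ∀ x, R' (ι x) = x := fun x => DFunLike.congr_fun hr' x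
  have hι'' : ∀ x, R'' (ι x) = x := fun x => DFunLike.congr_fun hr'' x
  have hι : Function.Injective ι := Function.LeftInverse.injective (g := R') hι'
  set JQ : Ideal (A ⧸ I) :=
    Ideal.map (ι : MonoidAlgebra k M →+* A ⧸ I) (RingHom.ker (Bialgebra.counitAlgHom k (MonoidAlgebra k M))) with hJQ
  haveI : JQ.IsHopfIdeal k := MultTypeLib.isHopfIdeal_map_aug ι
  have hJQ' : JQ = J.map (π : A →+* A ⧸ I) := by
    rw [hJ, Ideal.map_map]
    rfl
  let p : (A ⧸ I) →ₐ[k] (A ⧸ I) ⧸ JQ := Ideal.Quotient.mkₐ k JQ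
  haveI : Algebra.FiniteType k ((A ⧸ I) ⧸ JQ) :=
    Algebra.FiniteType.of_surjective p Ideal.Quotient.mk_surjective
  have hpι : ∀ x, p (ι x) = algebraMap k _ (CoalgebraStruct.counit (R := k) x) := mk_ι ι
  -- the kernel is unipotent
  let πJ : A →ₐc[k] (A ⧸ I) ⧸ JQ := (Bialgebra.Quotient.mkBialgHom (R := k) JQ).comp π
  have hπJ : ∀ a ∈ J, πJ a = 0 := fun a ha =>
    Ideal.Quotient.eq_zero_iff_mem.2 (hJQ' ▸ Ideal.mem_map_of_mem (π : A →+* A ⧸ I) ha)
  have hUQ : IsUnipotent k ((A ⧸ I) ⧸ JQ) := Unip23.isUnipotent_of_surjective (descend J πJ hπJ) (fun c => by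
    obtain ⟨q, rfl⟩ := Ideal.Quotient.mk_surjective c
    obtain ⟨a, rfl⟩ := hπ q
    exact ⟨Ideal.Quotient.mk J a, rfl⟩) hU
  by_cases hsurj : Function.Surjective ι
  · have heq : r'' = r' := by
      refine BialgHom.ext fun a => ?_
      obtain ⟨x, hx⟩ := hsurj (π a)
      show R'' (π a) = R' (π a)
      rw [← hx, hι', hι'']
    rw [heq]
    exact isConj_refl ψ r'
  -- skew primitive elements and their images
  let S : Set ((A ⧸ I) ⧸ JQ) := {s | ∃ (g : M) (y : A ⧸ I),
    CoalgebraStruct.comul (R := k) y = ι (MonoidAlgebra.single g 1) ⊗ₜ[k] y + y ⊗ₜ[k] 1 ∧ p y = s}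
  have hS : ∀ s ∈ S, CoalgebraStruct.comul (R := k) s = s ⊗ₜ[k] 1 + 1 ⊗ₜ[k] s := by
    rintro s ⟨g, y, hy, rfl⟩
    show CoalgebraStruct.comul (R := k) ((Bialgebra.Quotient.mkBialgHom (R := k) JQ) y) = _
    rw [TrigSplit28.map_comul, hy, map_add, TensorProduct.map_tmul, TensorProduct.map_tmul]
    show p (ι (MonoidAlgebra.single g 1)) ⊗ₜ[k] p y + p y ⊗ₜ[k] p 1 = _
    rw [hpι, counit_single, map_one, map_one, add_comm]
  have hgen : ∀ w, CoalgebraStruct.comul (R := k) w = w ⊗ₜ[k] 1 + 1 ⊗ₜ[k] w → w ∈ Submodule.span k S := by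
    intro w hw
    obtain ⟨T, y, hy, rfl⟩ := exists_lift ι R' hι (BialgHom.ext hι') JQ hJQ w hw
    exact Submodule.sum_mem _ fun g _ => Submodule.subset_span ⟨g, y g, hy g, rfl⟩
  have hne : ∃ s ∈ S, s ≠ 0 := by
    obtain ⟨x, hx0, hx⟩ := Unip23.exists_prim_ne_zero hUQ (fun hall => hsurj fun q => by
      refine (Unip23.mem_range_of_coinvariant ι JQ hJQ.le (b := q) ?_ : q ∈ (ι : MonoidAlgebra k M →ₐ[k] A ⧸ I).range)
      have h1 : ∀ a, p a = algebraMap k _ (CoalgebraStruct.counit (R := k) a) := by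
        intro a
        obtain ⟨c, hc⟩ := Submodule.mem_span_singleton.1 (hall (p a))
        have h2 := congrArg (CoalgebraStruct.counit (R := k)) hc
        rw [map_smul, Bialgebra.counit_one, smul_eq_mul, mul_one,
          show CoalgebraStruct.counit (R := k) (p a) = CoalgebraStruct.counit (R := k) a from
            CoalgHomClass.counit_comp_apply (Bialgebra.Quotient.mkBialgHom (R := k) JQ) a] at h2
        rw [← hc, h2, Algebra.algebraMap_eq_smul_one]
      have h3 : p.toLinearMap = (Algebra.linearMap k _).comp (CoalgebraStruct.counit (R := k)) :=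
        LinearMap.ext h1
      show p.toLinearMap.lTensor _ _ = _
      rw [h3, LinearMap.lTensor_comp_apply, Coalgebra.lTensor_counit_comul, LinearMap.lTensor_tmul]
      simp)
    by_contra! hall
    refine hx0 ?_
    have hb : Submodule.span k S = ⊥ := Submodule.span_eq_bot.2 hall
    simpa [hb] using hgen x hx
  obtain ⟨g, y, hy, hy0, hrad⟩ : ∃ (g : M) (y : A ⧸ I),
      CoalgebraStruct.comul (R := k) y = ι (MonoidAlgebra.single g 1) ⊗ₜ[k] y + y ⊗ₜ[k] 1 ∧ p y ≠ 0 ∧
        (IsReduced (MonoidAlgebra k M) ∨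
          (IsReduced ((A ⧸ I) ⧸ JQ) ∧ (Ideal.span {p y}).IsRadical)) := by
    rcases hinv with hred | hrad
    · obtain ⟨s, ⟨g, y, hy, rfl⟩, hs⟩ := hne
      exact ⟨g, y, hy, hs, Or.inl hred⟩
    · haveI hCred : IsReduced ((A ⧸ I) ⧸ JQ) := by
        refine (Ideal.isRadical_iff_quotient_reduced JQ).1 fun x hx => ?_
        obtain ⟨a, rfl⟩ := hπ x
        obtain ⟨n, hn⟩ := hx
        have hc : (J.map (π : A →+* A ⧸ I)).comap (π : A →+* A ⧸ I) = J ⊔ I := by
          rw [Ideal.comap_map_of_surjective (π : A →+* A ⧸ I) hπ]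
          congr 1
          exact Ideal.mk_ker (I := I)
        have h1 : a ^ n ∈ J ⊔ I := by
          rw [← hc, Ideal.mem_comap, ← hJQ', map_pow]
          exact hn
        have h2 : a ∈ J ⊔ I := sup_comm I J ▸ hrad ⟨n, sup_comm J I ▸ h1⟩
        rw [← hc, Ideal.mem_comap, ← hJQ'] at h2
        exact h2
      obtain ⟨s, ⟨g, y, hy, rfl⟩, hs, hsr⟩ := exists_radical_prim S hS hgen hne
      exact ⟨g, y, hy, hs, Or.inr ⟨hCred, hsr⟩⟩
  set χ₀ : MonoidAlgebra k M := MonoidAlgebra.single g 1 with hχ₀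
  have hχg : IsGroupLikeElem k χ₀ := MonoidAlgebra.isGroupLikeElem_single_one g
  have hval : ∀ R : (A ⧸ I) →ₐc[k] MonoidAlgebra k M, (∀ x, R (ι x) = x) → ∃ b : k, R y = b • (χ₀ - 1) := by
    intro R hR
    refine skewPrim_groupAlgebra g (R y) ?_
    rw [TrigSplit28.map_comul, hy, map_add, TensorProduct.map_tmul, TensorProduct.map_tmul]
    show R (ι χ₀) ⊗ₜ[k] R y + R y ⊗ₜ[k] R 1 = _
    rw [hR, map_one]
  obtain ⟨b', hb'⟩ := hval R' hι'
  obtain ⟨b'', hb''⟩ := hval R'' hι''
  have hyprim := hS (p y) ⟨g, y, hy, rfl⟩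
  obtain ⟨b, hPb, hbb⟩ : ∃ b : k, (minpoly k (p y)).eval b = 0 ∧ (b' - b) • (χ₀ - 1) = b'' • (χ₀ - 1) := by
    by_cases hχ1 : χ₀ = 1
    · exact ⟨0, by rw [← coeff_zero_eq_eval_zero]; exact coeff_zero_minpoly hyprim, by simp [hχ1]⟩
    refine ⟨b' - b'', ?_, by rw [sub_sub_cancel]⟩
    by_cases hint : IsIntegral k (p y)
    swap
    · rw [minpoly.eq_zero hint, eval_zero]
    obtain ⟨hn0, ha0, hbin, hhom, β, hβ⟩ := exists_addPoly ι hι g y hy (p y) rfl hint
    have hPn : (minpoly k (p y)).coeff (minpoly k (p y)).natDegree = 1 := (minpoly.monic hint).coeff_natDegree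
    have heq : ∀ (R : (A ⧸ I) →ₐc[k] MonoidAlgebra k M) (c : k), (∀ x, R (ι x) = x) → R y = c • (χ₀ - 1) →
        (minpoly k (p y)).eval c • (χ₀ ^ (minpoly k (p y)).natDegree - 1) =
          β • (χ₀ ^ (minpoly k (p y)).natDegree - 1) := by
      intro R c hR hc
      have h := congrArg R hβ
      simp only [map_sum, map_smul, map_pow, hc, hR] at h
      rw [sum_skew _ ha0 hbin χ₀ hhom c, ← eval_eq_sum_range] at h
      exact h
    rcases eq_or_ne (χ₀ ^ (minpoly k (p y)).natDegree) 1 with hpow | hpow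
    · exfalso
      refine hχ1 ?_
      rcases hrad with hred | ⟨hCred, -⟩
      · have hn2 : ∀ i ≤ (minpoly k (p y)).natDegree, ∀ j, 0 < j → j < i →
            (Pi.single (M := fun _ : ℕ => k) (minpoly k (p y)).natDegree 1) i * (i.choose j : k) = 0 := by
          intro i hi j hj0 hji
          rcases eq_or_ne i (minpoly k (p y)).natDegree with rfl | hne
          · have := hbin _ le_rfl j hj0 hji
            rw [hPn] at this
            simpa using this
          · simp [Pi.single_eq_of_ne hne]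
        have h := additive_of_choose (S := MonoidAlgebra k M) _ (by simp [Pi.single_eq_of_ne hn0.ne]) hn2 (χ₀ - 1) 1
        have hone : ∀ z : MonoidAlgebra k M, ∑ i ∈ Finset.range ((minpoly k (p y)).natDegree + 1),
            (Pi.single (M := fun _ : ℕ => k) (minpoly k (p y)).natDegree 1) i • z ^ i =
              z ^ (minpoly k (p y)).natDegree := fun z => by
          rw [Finset.sum_eq_single (minpoly k (p y)).natDegree (fun i _ hne => by
            rw [Pi.single_eq_of_ne hne, zero_smul]) (by simp), Pi.single_eq_same, one_smul]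
        rw [hone, hone, hone, sub_add_cancel, one_pow, hpow] at h
        exact sub_eq_zero.1 (IsReduced.eq_zero _ ⟨(minpoly k (p y)).natDegree, add_eq_right.1 h.symm⟩)
      · haveI := hCred
        haveI : Nontrivial ((A ⧸ I) ⧸ JQ) := Bialgebra.nontrivial k
        rcases hhom 1 hn0 with h | h
        · exact absurd h (coeff_one_ne_zero hint ha0)
        · rw [pow_one, hpow] at h; exact h
    · have h1 := heq R' b' hι' hb'
      rw [← heq R'' b'' hι'' hb'', ← sub_eq_zero, ← sub_smul, smul_eq_zero, sub_eq_zero] at h1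
      have h2 := sum_sub _ ha0 hbin b' b''
      rw [← eval_eq_sum_range, ← eval_eq_sum_range, ← eval_eq_sum_range] at h2
      rw [h2, sub_eq_zero]
      exact h1.resolve_right (sub_ne_zero.2 hpow)
  -- the conjugating point
  obtain ⟨gp, hgp⟩ := exists_point_eq hyprim b hPb
  let uQ : WithConv ((A ⧸ I) →ₐ[k] k) := toConv (gp.comp p)
  let u : WithConv (A →ₐ[k] k) := pre π uQ
  have huQι : pre ι uQ = 1 := by
    apply ofConv_injective
    refine AlgHom.ext fun x => ?_
    show gp (p (ι x)) = algebraMap k k (CoalgebraStruct.counit (R := k) x)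
    rw [hpι, AlgHom.commutes]
  have huψ : pre ψ u = 1 := huQι
  let U : WithConv ((A ⧸ I) →ₐ[k] MonoidAlgebra k M) := up _ uQ
  let X : WithConv ((A ⧸ I) →ₐ[k] MonoidAlgebra k M) :=
    U * toConv (R' : (A ⧸ I) →ₐ[k] MonoidAlgebra k M) * U⁻¹
  let r₁ : A →ₐc[k] MonoidAlgebra k M := r'.comp (conjHom u)
  have hr₁X : toConv (r₁ : A →ₐ[k] MonoidAlgebra k M) = pre π X := by
    rw [show toConv (r₁ : A →ₐ[k] MonoidAlgebra k M) = _ from toConv_comp_conjHom u r', map_mul, map_mul, pre_inv]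
    rfl
  have hXι : ∀ x, X.ofConv (ι x) = x := by
    have h : pre ι X = toConv (AlgHom.id k (MonoidAlgebra k M)) := by
      have hU1 : pre ι U = 1 := by
        show pre ι (post (Algebra.ofId k (MonoidAlgebra k M)) uQ) = 1
        rw [pre_post, huQι, map_one]
      show pre ι (U * toConv (R' : (A ⧸ I) →ₐ[k] MonoidAlgebra k M) * U⁻¹) = _
      rw [map_mul, map_mul, pre_inv, hU1]
      have aux : ∀ {G : Type u} [Group G] (x : G), 1 * x * 1⁻¹ = x := fun {G} _ x => by group
      refine (aux _).trans ?_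
      apply ofConv_injective
      exact AlgHom.ext fun x => hι' x
    intro x
    exact AlgHom.congr_fun (congrArg WithConv.ofConv h) x
  have hX : X.ofConv y = (b' - b) • (χ₀ - 1) := by
    have hmulχ : ∀ f h : WithConv ((A ⧸ I) →ₐ[k] MonoidAlgebra k M), (f * h) (ι χ₀) = f (ι χ₀) * h (ι χ₀) :=
      fun f h => by rw [AlgHom.convMul_apply, (hχg.map ι).comul_eq_tmul_self, Algebra.TensorProduct.lift_tmul]
    have hmuly : ∀ f h : WithConv ((A ⧸ I) →ₐ[k] MonoidAlgebra k M), (f * h) y = f (ι χ₀) * h y + f y :=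
      fun f h => by
        rw [AlgHom.convMul_apply, hy, map_add, Algebra.TensorProduct.lift_tmul, Algebra.TensorProduct.lift_tmul,
          map_one, mul_one]
    have hUχ : U (ι χ₀) = 1 := by
      show algebraMap k _ (gp (p (ι χ₀))) = 1
      rw [hpι, hχg.counit_eq_one, map_one, map_one, map_one]
    have hUy : U y = algebraMap k _ b := by
      show algebraMap k _ (gp (p y)) = _
      rw [hgp]
    have hεy : CoalgebraStruct.counit (R := k) y = 0 := by
      rw [← show CoalgebraStruct.counit (R := k) (p y) = CoalgebraStruct.counit (R := k) y from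
        CoalgHomClass.counit_comp_apply (Bialgebra.Quotient.mkBialgHom (R := k) JQ) y]
      exact counit_eq_zero_of_prim hyprim
    have hinvy : U⁻¹ y = - algebraMap k _ b := by
      have h := congrArg (fun f : WithConv ((A ⧸ I) →ₐ[k] MonoidAlgebra k M) => f y) (mul_inv_cancel U)
      simp only [hmuly, hUχ, one_mul, hUy] at h
      rw [AlgHom.convOne_apply, hεy, map_zero] at h
      exact eq_neg_of_add_eq_zero_left h
    show (U * toConv (R' : (A ⧸ I) →ₐ[k] MonoidAlgebra k M) * U⁻¹) y = _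
    rw [hmuly, hmuly, hmulχ, hUχ, hUy, hinvy]
    show 1 * R' (ι χ₀) * -algebraMap k _ b + (1 * R' y + algebraMap k _ b) = _
    rw [hι', hb', Algebra.algebraMap_eq_smul_one, one_mul, one_mul, mul_neg, mul_smul_comm, mul_one, smul_sub,
      smul_sub, sub_smul, sub_smul]
    abel
  -- the new ideal
  set w := y - ι (b'' • (χ₀ - 1)) with hw
  have hΔw : CoalgebraStruct.comul (R := k) w = ι χ₀ ⊗ₜ[k] w + w ⊗ₜ[k] 1 := by
    rw [hw, map_smul, map_sub ι, map_one, map_sub, map_smul, map_sub, hy, (hχg.map ι).comul_eq_tmul_self,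
      Bialgebra.comul_one, Algebra.TensorProduct.one_def, TensorProduct.tmul_sub, TensorProduct.sub_tmul,
      TensorProduct.tmul_smul, ← TensorProduct.smul_tmul', TensorProduct.tmul_sub, TensorProduct.sub_tmul]
    module
  haveI : (Ideal.span {w}).IsHopfIdeal k := isHopfIdeal_span_skew (hχg.map ι) hΔw
  let Φ : A →ₐc[k] (A ⧸ I) ⧸ Ideal.span {w} := (Bialgebra.Quotient.mkBialgHom (R := k) (Ideal.span {w})).comp π
  have hker : ∀ a, a ∈ RingHom.ker (Φ : A →ₐ[k] (A ⧸ I) ⧸ Ideal.span {w}) ↔ π a ∈ Ideal.span {w} := fun a =>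
    Ideal.Quotient.eq_zero_iff_mem
  have hpw : p w = p y := by
    rw [hw, map_sub, hpι, map_smul, map_sub, hχg.counit_eq_one, Bialgebra.counit_one, sub_self, smul_zero, map_zero,
      sub_zero]
  have hkill : ∀ f : (A ⧸ I) →ₐ[k] MonoidAlgebra k M, f w = 0 → ∀ q ∈ Ideal.span {w}, f q = 0 := fun f hf q hq => by
    obtain ⟨c, rfl⟩ := Ideal.mem_span_singleton'.1 hq
    rw [map_mul, hf, mul_zero]
  have hlt : I < RingHom.ker (Φ : A →ₐ[k] (A ⧸ I) ⧸ Ideal.span {w}) := by
    refine lt_of_le_of_ne (fun a ha => ?_) fun heq => ?_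
    · rw [hker, show π a = 0 from Ideal.Quotient.eq_zero_iff_mem.2 ha]
      exact zero_mem _
    · obtain ⟨a, ha⟩ := hπ w
      have ha' : a ∈ RingHom.ker (Φ : A →ₐ[k] (A ⧸ I) ⧸ Ideal.span {w}) := by
        rw [hker, ha]; exact Ideal.mem_span_singleton_self w
      rw [← heq] at ha'
      refine hy0 ?_
      rw [← hpw, ← ha, show π a = 0 from Ideal.Quotient.eq_zero_iff_mem.2 ha', map_zero]
  have hinv' : IsReduced (MonoidAlgebra k M) ∨
      (RingHom.ker (Φ : A →ₐ[k] (A ⧸ I) ⧸ Ideal.span {w}) ⊔ J).IsRadical := by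
    refine hrad.imp id fun h => ?_
    rintro a ⟨n, hn⟩
    have h1 : p (π a) ^ n ∈ Ideal.span {p y} := by
      obtain ⟨i, hi, j, hj, hij⟩ := Submodule.mem_sup.1 hn
      rw [← map_pow p, ← map_pow π, ← hij, map_add π, map_add p,
        show p (π j) = 0 from hπJ j hj, add_zero]
      obtain ⟨c, hc⟩ := Ideal.mem_span_singleton'.1 ((hker i).1 hi)
      rw [← hc, map_mul, hpw]
      exact Ideal.mul_mem_left _ _ (Ideal.mem_span_singleton_self _)
    obtain ⟨c, hc⟩ := Ideal.mem_span_singleton'.1 (h.2 ⟨n, h1⟩)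
    obtain ⟨c₀, rfl⟩ := Ideal.Quotient.mk_surjective c
    have h2 : π a - c₀ * w ∈ J.map (π : A →+* A ⧸ I) := by
      rw [← hJQ', ← Ideal.Quotient.eq_zero_iff_mem]
      show p (π a - c₀ * w) = 0
      rw [map_sub, map_mul, hpw, ← hc, sub_eq_zero]
      rfl
    obtain ⟨j, hj, hje⟩ := (Ideal.mem_map_iff_of_surjective (π : A →+* A ⧸ I) hπ).1 h2
    refine Submodule.mem_sup.2 ⟨a - j, (hker _).2 ?_, j, hj, sub_add_cancel a j⟩
    rw [map_sub, show π j = π a - c₀ * w from hje, sub_sub_cancel]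
    exact Ideal.mul_mem_left _ _ (Ideal.mem_span_singleton_self w)
  have hr₁ : r₁.comp ψ = BialgHom.id k (MonoidAlgebra k M) := BialgHom.ext fun x => by
    show r₁ (ψ x) = x
    exact (AlgHom.congr_fun (congrArg WithConv.ofConv hr₁X) (ψ x)).trans (hXι x)
  refine IsConj.trans ⟨u, huψ, toConv_comp_conjHom u r'⟩
    (ih _ hlt (HopfFF23.isHopfIdeal_ker Φ) hinv' r₁ r'' hr₁ hr'' (fun a ha => ?_) fun a ha => ?_)
  · refine (AlgHom.congr_fun (congrArg WithConv.ofConv hr₁X) a).trans ?_
    refine hkill X.ofConv ?_ _ ((hker a).1 ha)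
    rw [hw, map_sub, hX, hXι, hbb, sub_self]
  · refine hkill (R'' : (A ⧸ I) →ₐ[k] MonoidAlgebra k M) ?_ _ ((hker a).1 ha)
    show R'' w = 0
    rw [hw, map_sub, hb'', hι'', sub_self]

end Groth.Agent.SectConj28
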