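import Groth.Agent.Lib.TrigSplit28.Key

/-!
# The additive polynomial of an algebraic skew primitive element
-/

set_option autoImplicit false
set_option linter.style.haveILetI false

universe u

open TensorProduct WithConv Polynomial

noncomputable section

namespace Groth.Agent.SectConj28

open Groth.Agent.TrigSplit28

variable {k : Type u} [Field k] {Q : Type u} [CommRing Q] [HopfAlgebra k Q] {M : Type u} [CommGroup M]

set_option maxHeartbeats 4000000 in
/-- The minimal polynomial of the image of a skew primitive element is additive and homogeneous. -/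
theorem exists_addPoly [Algebra.FiniteType k Q] [Group.FG M] (ι : MonoidAlgebra k M →ₐc[k] Q) (hι : Function.Injective ι)
    (m₀ : M) (y : Q)
    (hy : CoalgebraStruct.comul (R := k) y = ι (MonoidAlgebra.single m₀ 1) ⊗ₜ[k] y + y ⊗ₜ[k] 1)
    (yb' : Q ⧸ Ideal.map (ι : MonoidAlgebra k M →+* Q) (RingHom.ker (Bialgebra.counitAlgHom k (MonoidAlgebra k M))))
    (hyb' : Ideal.Quotient.mkₐ k _ y = yb') (hint' : IsIntegral k yb') :
    0 < (minpoly k yb').natDegree ∧ (minpoly k yb').coeff 0 = 0 ∧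
      (∀ i ≤ (minpoly k yb').natDegree, ∀ j, 0 < j → j < i → (minpoly k yb').coeff i * (i.choose j : k) = 0) ∧
      (∀ i ≤ (minpoly k yb').natDegree, (minpoly k yb').coeff i = 0 ∨
        (MonoidAlgebra.single m₀ (1 : k)) ^ i = (MonoidAlgebra.single m₀ (1 : k)) ^ (minpoly k yb').natDegree) ∧
      ∃ β : k, ∑ i ∈ Finset.range ((minpoly k yb').natDegree + 1), (minpoly k yb').coeff i • y ^ i =
        ι (β • ((MonoidAlgebra.single m₀ (1 : k)) ^ (minpoly k yb').natDegree - 1)) := by
  classical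
  set χ₀ : MonoidAlgebra k M := MonoidAlgebra.single m₀ 1 with hχ₀
  set χ := ι χ₀ with hχ
  have hχg : IsGroupLikeElem k χ₀ := MonoidAlgebra.isGroupLikeElem_single_one m₀
  have hχu : IsUnit χ := (hχg.map ι).isUnit
  set J := Ideal.map (ι : MonoidAlgebra k M →+* Q) (RingHom.ker (Bialgebra.counitAlgHom k (MonoidAlgebra k M))) with hJ
  haveI : J.IsHopfIdeal k := MultTypeLib.isHopfIdeal_map_aug ι
  let p : Q →ₐ[k] Q ⧸ J := Ideal.Quotient.mkₐ k J
  set yb := p y with hyb
  have hpι : ∀ b, p (ι b) = algebraMap k _ (CoalgebraStruct.counit (R := k) b) := mk_ι ι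
  have hpχ : p χ = 1 := by rw [hχ, hpι, hχg.counit_eq_one, map_one]
  have hεQ : CoalgebraStruct.counit (R := k) χ = 1 := (hχg.map ι).counit_eq_one
  have hεy : CoalgebraStruct.counit (R := k) y = 0 := by
    have h := congrArg (TensorProduct.lid k Q) (Coalgebra.rTensor_counit_comul (R := k) y)
    rw [hy, map_add, map_add, LinearMap.rTensor_tmul, LinearMap.rTensor_tmul, TensorProduct.lid_tmul,
      TensorProduct.lid_tmul, TensorProduct.lid_tmul, hεQ, one_smul, add_eq_left] at h
    have h2 := congrArg (CoalgebraStruct.counit (R := k)) h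
    rwa [map_smul, Bialgebra.counit_one, smul_eq_mul, mul_one, map_zero] at h2
  have hS : HopfAlgebra.antipode k χ * y + HopfAlgebra.antipode k y = 0 := by
    have h := HopfAlgebra.mul_antipode_rTensor_comul_apply (R := k) y
    rw [hy, map_add, map_add, LinearMap.rTensor_tmul, LinearMap.rTensor_tmul, LinearMap.mul'_apply,
      LinearMap.mul'_apply, hεy, map_zero, mul_one] at h
    exact h
  have hδy : δ J y = χ ⊗ₜ[k] yb + y ⊗ₜ[k] 1 := by
    rw [δ_apply, hy, map_add, LinearMap.lTensor_tmul, LinearMap.lTensor_tmul]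
    simp only [AlgHom.toLinearMap_apply, map_one]
    rfl
  subst hyb'
  have hint : IsIntegral k yb := hint'
  haveI : Nontrivial (Q ⧸ J) := ⟨⟨1, 0, fun h => one_ne_zero (α := k) (by
    simpa using congrArg (Bialgebra.counitAlgHom k (Q ⧸ J)) h)⟩⟩
  set P := minpoly k yb with hP
  set n := P.natDegree with hn
  let a : ℕ → k := P.coeff
  have hn0 : 0 < n := minpoly.natDegree_pos hint
  have han : a n = 1 := (minpoly.monic hint).coeff_natDegree
  have hPy : ∑ i ∈ Finset.range (n + 1), a i • yb ^ i = 0 :=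
    (Polynomial.aeval_eq_sum_range (p := P) yb).symm.trans (minpoly.aeval k yb)
  have ha0 : a 0 = 0 := by
    have hεyb : Bialgebra.counitAlgHom k (Q ⧸ J) yb = 0 := hεy
    have h := congrArg (Bialgebra.counitAlgHom k (Q ⧸ J)) hPy
    simp only [map_sum, map_smul, map_pow, hεyb, map_zero, smul_eq_mul] at h
    rw [Finset.sum_eq_single 0 (fun i _ hi => by rw [zero_pow hi, mul_zero]) (by simp)] at h
    simpa using h
  have hli : LinearIndependent k fun i : Fin n => yb ^ (i : ℕ) := linearIndependent_pow yb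
  have hlin : ∀ g : ℕ → k, ∑ i ∈ Finset.range n, g i • yb ^ i = 0 → ∀ i < n, g i = 0 := fun g hg i hi =>
    Fintype.linearIndependent_iff.1 hli (fun j => g j) (by rw [← hg, ← Fin.sum_univ_eq_sum_range]) ⟨i, hi⟩
  obtain ⟨e, he⟩ : ∃ e : ℕ → ((Q ⧸ J) →ₗ[k] k), ∀ i < n, ∀ j < n, e i (yb ^ j) = if j = i then 1 else 0 := by
    obtain ⟨L, hL⟩ := (Finsupp.linearCombination k fun i : Fin n => yb ^ (i : ℕ)).exists_leftInverse_of_injective
      (LinearMap.ker_eq_bot.2 hli.finsuppLinearCombination_injective)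
    refine ⟨fun i => if h : i < n then (Finsupp.lapply ⟨i, h⟩).comp L else 0, fun i hi j hj => ?_⟩
    have h1 := LinearMap.congr_fun hL (Finsupp.single ⟨j, hj⟩ 1)
    rw [LinearMap.comp_apply, Finsupp.linearCombination_single, one_smul, LinearMap.id_apply] at h1
    simp [dif_pos hi, h1, Finsupp.single_apply]
  have he_top : ∀ i < n, e i (yb ^ n) = - a i := by
    intro i hi
    have h := congrArg (e i) hPy
    rw [map_zero, map_sum, Finset.sum_range_succ, Finset.sum_eq_single i (fun j hj hne => by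
      rw [map_smul, he i hi j (Finset.mem_range.1 hj), if_neg hne, smul_zero]) (by simp [hi])] at h
    rw [map_smul, map_smul, he i hi i hi, if_pos rfl, han, one_smul, smul_eq_mul, mul_one] at h
    exact eq_neg_of_add_eq_zero_right h
  -- additivity
  have hbin : ∀ i ≤ n, ∀ j, 0 < j → j < i → a i * (i.choose j : k) = 0 := by
    intro i hi j hj0 hji
    let Δ := Bialgebra.comulAlgHom k (Q ⧸ J)
    have hΔyb : Δ yb = yb ⊗ₜ[k] 1 + 1 ⊗ₜ[k] yb := by
      show CoalgebraStruct.comul (R := k) (Ideal.Quotient.mk J y) = _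
      rw [show Ideal.Quotient.mk J y = (Bialgebra.Quotient.mkBialgHom (R := k) J) y from rfl,
        ← CoalgHomClass.map_comp_comul_apply, hy, map_add, TensorProduct.map_tmul, TensorProduct.map_tmul]
      show p χ ⊗ₜ[k] p y + p y ⊗ₜ[k] p 1 = _
      rw [hpχ, map_one, add_comm]
    have h := congrArg Δ hPy
    rw [map_zero, map_sum] at h
    simp only [map_smul, map_pow, hΔyb, add_pow, Algebra.TensorProduct.tmul_pow, one_pow,
      Algebra.TensorProduct.tmul_mul_tmul, mul_one, one_mul] at h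
    let F := (TensorProduct.lid k k).toLinearMap ∘ₗ TensorProduct.map (e j) (e (i - j))
    have h' := congrArg F h
    rw [map_zero, map_sum] at h'
    have hterm : ∀ i' ≤ n, ∀ j' ≤ i', e j (yb ^ j') * e (i - j) (yb ^ (i' - j')) =
        if i' = i ∧ j' = j then 1 else 0 := by
      intro i' hi' j' hj'
      rcases lt_or_eq_of_le (hj'.trans hi') with hjn | hjn
      · rw [he j (by omega) j' hjn]
        split_ifs with h1 h2 h2
        · subst h1; rw [he (i - j') (by omega) (i' - j') (by omega)]; simp [h2.1]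
        · subst h1
          rcases lt_or_eq_of_le (show i' - j' ≤ n by omega) with hl | hl
          · rw [he (i - j') (by omega) _ hl, if_neg (by omega), mul_zero]
          · omega
        · exact absurd h2.2 h1
        · rw [zero_mul]
      · obtain rfl : i' = n := by omega
        rw [hjn, Nat.sub_self, he (i - j) (by omega) 0 hn0, if_neg (by omega), mul_zero, if_neg (by omega)]
    rw [Finset.sum_eq_single i ?_ ?_, map_smul, map_sum, Finset.sum_eq_single j ?_ ?_] at h'
    · rw [mul_comm (_ ⊗ₜ[k] _) ((i.choose j : ℕ) : (Q ⧸ J) ⊗[k] (Q ⧸ J)), ← nsmul_eq_mul, map_nsmul] at h'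
      simp only [F, LinearMap.comp_apply, TensorProduct.map_tmul, LinearEquiv.coe_coe, TensorProduct.lid_tmul,
        smul_eq_mul] at h'
      rwa [hterm i hi j hji.le, if_pos ⟨rfl, rfl⟩, nsmul_eq_mul, mul_one] at h'
    · intro j' hj' hne
      rw [mul_comm (_ ⊗ₜ[k] _) ((i.choose j' : ℕ) : (Q ⧸ J) ⊗[k] (Q ⧸ J)), ← nsmul_eq_mul, map_nsmul]
      simp only [F, LinearMap.comp_apply, TensorProduct.map_tmul, LinearEquiv.coe_coe, TensorProduct.lid_tmul,
        smul_eq_mul]
      rw [hterm i hi j' (Nat.lt_succ_iff.1 (Finset.mem_range.1 hj')), if_neg (by simp [hne]), smul_zero]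
    · intro hnot; exact absurd (Finset.mem_range.2 (by omega)) hnot
    · intro i' hi' hne
      rw [map_smul, map_sum, Finset.sum_eq_zero, smul_zero]
      intro j' hj'
      rw [mul_comm (_ ⊗ₜ[k] _) ((i'.choose j' : ℕ) : (Q ⧸ J) ⊗[k] (Q ⧸ J)), ← nsmul_eq_mul, map_nsmul]
      simp only [F, LinearMap.comp_apply, TensorProduct.map_tmul, LinearEquiv.coe_coe, TensorProduct.lid_tmul,
        smul_eq_mul]
      rw [hterm i' (Nat.lt_succ_iff.1 (Finset.mem_range.1 hi')) j' (Nat.lt_succ_iff.1 (Finset.mem_range.1 hj')),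
        if_neg (by simp [hne]), smul_zero]
    · intro hnot; exact absurd (Finset.mem_range.2 (by omega)) hnot
  -- homogeneity, from conjugation
  have hhom : ∀ i ≤ n, a i = 0 ∨ χ ^ i = χ ^ n := by
    intro i hi
    rcases eq_or_lt_of_le hi with rfl | hin
    · exact Or.inr rfl
    let iR : Q →ₐ[k] (Q ⧸ J) ⊗[k] Q := Algebra.TensorProduct.includeRight
    let iL : Q →ₐ[k] (Q ⧸ J) ⊗[k] Q := (Algebra.TensorProduct.includeLeft).comp p
    let F : WithConv (Q →ₐ[k] (Q ⧸ J) ⊗[k] Q) := toConv (iR.comp (HopfAlgebra.antipodeAlgHom k Q)) * toConv iL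
    let φ : Q →ₐ[k] (Q ⧸ J) ⊗[k] Q := (F * toConv iR).ofConv
    have hmulχ : ∀ f g : WithConv (Q →ₐ[k] (Q ⧸ J) ⊗[k] Q), (f * g) χ = f χ * g χ := fun f g => by
      rw [AlgHom.convMul_apply, (hχg.map ι).comul_eq_tmul_self, Algebra.TensorProduct.lift_tmul]
    have hmuly : ∀ f g : WithConv (Q →ₐ[k] (Q ⧸ J) ⊗[k] Q), (f * g) y = f χ * g y + f y := fun f g => by
      rw [AlgHom.convMul_apply, hy, map_add, Algebra.TensorProduct.lift_tmul, Algebra.TensorProduct.lift_tmul,
        map_one, mul_one]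
    have hJφ : J ≤ RingHom.ker φ := by
      refine Ideal.map_le_iff_le_comap.2 ?_
      have heq : φ.comp (ι : MonoidAlgebra k M →ₐ[k] Q) =
          (Algebra.ofId k _).comp (Bialgebra.counitAlgHom k (MonoidAlgebra k M)) := by
        refine MonoidAlgebra.algHom_ext (fun m => ?_) ?_
        · have hm := (MonoidAlgebra.isGroupLikeElem_single_one (R := k) m).map ι
          show (F * toConv iR) (ι (MonoidAlgebra.single m 1)) = algebraMap k _ (CoalgebraStruct.counit (R := k) (MonoidAlgebra.single m (1 : k)))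
          rw [AlgHom.convMul_apply, hm.comul_eq_tmul_self, Algebra.TensorProduct.lift_tmul, counit_single, map_one]
          show (toConv (iR.comp (HopfAlgebra.antipodeAlgHom k Q)) * toConv iL) (ι (MonoidAlgebra.single m 1)) * iR _ = 1
          rw [AlgHom.convMul_apply, hm.comul_eq_tmul_self, Algebra.TensorProduct.lift_tmul]
          show ((1 : Q ⧸ J) ⊗ₜ[k] HopfAlgebra.antipode k (ι (MonoidAlgebra.single m 1))) *
            (p (ι (MonoidAlgebra.single m 1)) ⊗ₜ[k] (1 : Q)) * ((1 : Q ⧸ J) ⊗ₜ[k] ι (MonoidAlgebra.single m 1)) = 1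
          rw [hpι, counit_single, map_one, Algebra.TensorProduct.tmul_mul_tmul, Algebra.TensorProduct.tmul_mul_tmul,
            one_mul, mul_one, mul_one, hm.antipode_mul_cancel]
          rfl
        · exact Subsingleton.elim _ _
      intro b hb
      show φ (ι b) = 0
      refine (AlgHom.congr_fun heq b).trans ?_
      show algebraMap k ((Q ⧸ J) ⊗[k] Q) (Bialgebra.counitAlgHom k (MonoidAlgebra k M) b) = 0
      rw [show Bialgebra.counitAlgHom k (MonoidAlgebra k M) b = 0 from hb, map_zero]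
    let φ' : (Q ⧸ J) →ₐ[k] (Q ⧸ J) ⊗[k] Q := Ideal.Quotient.liftₐ J φ fun x hx => hJφ hx
    have hφy : φ y = yb ⊗ₜ[k] HopfAlgebra.antipode k χ := by
      show (F * toConv iR) y = _
      rw [hmuly]
      show (toConv (iR.comp (HopfAlgebra.antipodeAlgHom k Q)) * toConv iL) χ * iR y +
        (toConv (iR.comp (HopfAlgebra.antipodeAlgHom k Q)) * toConv iL) y = _
      rw [hmuly, hmulχ]
      show ((1 : Q ⧸ J) ⊗ₜ[k] HopfAlgebra.antipode k χ) * (p χ ⊗ₜ[k] (1 : Q)) * ((1 : Q ⧸ J) ⊗ₜ[k] y) +
        (((1 : Q ⧸ J) ⊗ₜ[k] HopfAlgebra.antipode k χ) * (yb ⊗ₜ[k] (1 : Q)) + (1 : Q ⧸ J) ⊗ₜ[k] HopfAlgebra.antipode k y) = _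
      simp only [hpχ, Algebra.TensorProduct.tmul_mul_tmul, one_mul, mul_one]
      rw [← add_assoc, add_right_comm, ← TensorProduct.tmul_add, hS, TensorProduct.tmul_zero, zero_add]
    have h0 := congrArg φ' hPy
    rw [map_zero, map_sum] at h0
    simp only [map_smul, map_pow, show φ' yb = yb ⊗ₜ[k] HopfAlgebra.antipode k χ from hφy,
      Algebra.TensorProduct.tmul_pow] at h0
    have h' := congrArg (fun z => TensorProduct.lid k Q ((e i).rTensor Q z)) h0
    simp only [map_sum, map_smul, LinearMap.rTensor_tmul, TensorProduct.lid_tmul, map_zero] at h'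
    rw [Finset.sum_range_succ, Finset.sum_eq_single i (fun j hj hne => by
      rw [he i hin j (Finset.mem_range.1 hj), if_neg hne, zero_smul, smul_zero]) (by simp [hin]),
      he i hin i hin, if_pos rfl, one_smul, he_top i hin, han, one_smul, neg_smul, ← sub_eq_add_neg, ← smul_sub] at h'
    rcases smul_eq_zero.1 h' with h1 | h1
    · exact Or.inl h1
    · refine Or.inr ?_
      have hu : HopfAlgebra.antipode k χ * χ = 1 := (hχg.map ι).antipode_mul_cancel
      set s := HopfAlgebra.antipode k χ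
      calc χ ^ i = (s * χ) ^ n * χ ^ i := by rw [hu, one_pow, one_mul]
        _ = s ^ n * χ ^ i * χ ^ n := by ring
        _ = (s * χ) ^ i * χ ^ n := by rw [← sub_eq_zero.1 h1]; ring
        _ = χ ^ n := by rw [hu, one_pow, one_mul]
  have hhomB : ∀ i ≤ n, a i = 0 ∨ χ₀ ^ i = χ₀ ^ n := fun i hi =>
    (hhom i hi).imp id fun h => hι (by rw [map_pow, map_pow]; exact h)
  -- the value of the polynomial at `y` lies in the group algebra
  set zQ := ∑ i ∈ Finset.range (n + 1), a i • y ^ i with hzQ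
  have hadd {S : Type u} [CommRing S] [Algebra k S] (u v : S) :=
    additive_of_choose (S := S) a ha0 hbin u v
  obtain ⟨z₀, hz₀⟩ : zQ ∈ (ι : MonoidAlgebra k M →ₐ[k] Q).range := by
    refine Unip23.mem_range_of_coinvariant ι J hJ.le ?_
    rw [← δ_apply, hzQ, map_sum]
    simp only [map_smul, map_pow, hδy]
    rw [hadd, Finset.sum_congr rfl (fun i hi => show a i • (χ ⊗ₜ[k] yb) ^ i = (χ ^ n) ⊗ₜ[k] (a i • yb ^ i) by
        rw [Algebra.TensorProduct.tmul_pow, TensorProduct.tmul_smul]
        rcases hhom i (Nat.lt_succ_iff.1 (Finset.mem_range.1 hi)) with h | h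
        · rw [h, zero_smul, zero_smul]
        · rw [h]),
      ← TensorProduct.tmul_sum, hPy, TensorProduct.tmul_zero, zero_add, TensorProduct.sum_tmul]
    simp only [Algebra.TensorProduct.tmul_pow, one_pow, TensorProduct.smul_tmul']
  have hz₀' : ι z₀ = zQ := hz₀
  obtain ⟨b, hb⟩ : ∃ b : k, z₀ = b • (χ₀ ^ n - 1) := by
    rw [hχ₀, MonoidAlgebra.single_pow, one_pow]
    refine skewPrim_groupAlgebra _ _ ?_
    refine TensorProduct.map_injective_of_flat_flat (ι : MonoidAlgebra k M →ₗ[k] Q) (ι : MonoidAlgebra k M →ₗ[k] Q)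
      hι hι ?_
    rw [← map_comul, hz₀', map_add, TensorProduct.map_tmul, TensorProduct.map_tmul]
    show _ = ι (MonoidAlgebra.single (m₀ ^ n) 1) ⊗ₜ[k] ι z₀ + ι z₀ ⊗ₜ[k] ι 1
    rw [hz₀', map_one, show MonoidAlgebra.single (m₀ ^ n) (1 : k) = χ₀ ^ n by
      rw [hχ₀, MonoidAlgebra.single_pow, one_pow], map_pow, ← hχ]
    show Bialgebra.comulAlgHom k Q zQ = _
    rw [hzQ, map_sum]
    simp only [map_smul, map_pow, show Bialgebra.comulAlgHom k Q y = χ ⊗ₜ[k] y + y ⊗ₜ[k] 1 from hy]
    rw [hadd, Finset.sum_congr rfl (fun i hi => show a i • (χ ⊗ₜ[k] y) ^ i = (χ ^ n) ⊗ₜ[k] (a i • y ^ i) by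
        rw [Algebra.TensorProduct.tmul_pow, TensorProduct.tmul_smul]
        rcases hhom i (Nat.lt_succ_iff.1 (Finset.mem_range.1 hi)) with h | h
        · rw [h, zero_smul, zero_smul]
        · rw [h]),
      ← TensorProduct.tmul_sum, TensorProduct.sum_tmul]
    simp only [Algebra.TensorProduct.tmul_pow, one_pow, TensorProduct.smul_tmul']
  exact ⟨hn0, ha0, hbin, hhomB, b, by rw [← hb, hz₀']⟩

end Groth.Agent.SectConj28
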