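import Groth.Agent.Lib.SectConj28.MinPoly
import Groth.Agent.Lib.HopfFlat20.Frob
import Groth.Agent.Lib.HopfFlat20.AlgClosed
import Mathlib.RingTheory.Filtration

/-!
# Primitive elements with reduced zero locus
-/

set_option autoImplicit false
set_option linter.style.haveILetI false

universe u

open TensorProduct Polynomial

noncomputable section

namespace Groth.Agent.SectConj28

variable {k : Type u} [Field k] {C : Type u} [CommRing C] [HopfAlgebra k C]

theorem isSub_adjoin_prim {z : C} (hz : CoalgebraStruct.comul (R := k) z = z ⊗ₜ[k] 1 + 1 ⊗ₜ[k] z)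
    (S : Subalgebra k C) (hS : HopfFlat.IsSub S) :
    HopfFlat.IsSub (Algebra.adjoin k (insert z (S : Set C))) := by
  set R := Algebra.adjoin k (insert z (S : Set C)) with hR
  have hzR : z ∈ R := Algebra.subset_adjoin (Set.mem_insert _ _)
  have hSR : S ≤ R := fun x hx => Algebra.subset_adjoin (Set.mem_insert_of_mem _ hx)
  have hε : CoalgebraStruct.counit (R := k) z = 0 := by
    have h := congrArg (TensorProduct.lid k C) (Coalgebra.rTensor_counit_comul (R := k) z)
    rw [hz, map_add, map_add, LinearMap.rTensor_tmul, LinearMap.rTensor_tmul, TensorProduct.lid_tmul,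
      TensorProduct.lid_tmul, TensorProduct.lid_tmul, Bialgebra.counit_one, one_smul, add_eq_right] at h
    have h2 := congrArg (CoalgebraStruct.counit (R := k)) h
    rwa [map_smul, Bialgebra.counit_one, smul_eq_mul, mul_one, map_zero] at h2
  have hanti : HopfAlgebra.antipode k z = -z := by
    have h := HopfAlgebra.mul_antipode_rTensor_comul_apply (R := k) z
    rw [hz, map_add, map_add, LinearMap.rTensor_tmul, LinearMap.rTensor_tmul, LinearMap.mul'_apply,
      LinearMap.mul'_apply, hε, map_zero, mul_one, HopfAlgebra.antipode_one, one_mul] at h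
    exact eq_neg_of_add_eq_zero_left h
  refine ⟨fun r hr => ?_, fun r hr => ?_⟩
  · suffices R ≤ (Algebra.TensorProduct.map R.val R.val).range.comap (Bialgebra.comulAlgHom k C) from this hr
    refine Algebra.adjoin_le ?_
    rintro x (hx | hx)
    · rw [hx]
      exact ⟨(⟨z, hzR⟩ : R) ⊗ₜ[k] 1 + 1 ⊗ₜ[k] (⟨z, hzR⟩ : R), by simp [hz]⟩
    · obtain ⟨v, hv⟩ := hS.comul_mem x hx
      refine ⟨Algebra.TensorProduct.map (Subalgebra.inclusion hSR) (Subalgebra.inclusion hSR) v, ?_⟩
      show _ = CoalgebraStruct.comul (R := k) x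
      rw [← hv]
      clear hv
      induction v with
      | zero => simp
      | add p q hp hq => simp only [map_add, hp, hq]
      | tmul p q => rfl
  · suffices R ≤ R.comap (HopfAlgebra.antipodeAlgHom k C) from this hr
    refine Algebra.adjoin_le ?_
    rintro x (hx | hx)
    · rw [hx]
      show HopfAlgebra.antipode k z ∈ R
      rw [hanti]; exact neg_mem hzR
    · exact hSR (hS.antipode_mem x hx)

theorem isSub_bot : HopfFlat.IsSub (⊥ : Subalgebra k C) := by
  refine ⟨fun b hb => ?_, fun b hb => ?_⟩ <;> obtain ⟨c, rfl⟩ := Algebra.mem_bot.1 hb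
  · exact ⟨c • ((1 : (⊥ : Subalgebra k C)) ⊗ₜ[k] 1), by
      simp [Algebra.algebraMap_eq_smul_one, Algebra.TensorProduct.one_def]⟩
  · rw [Algebra.algebraMap_eq_smul_one, map_smul, HopfAlgebra.antipode_one]
    exact Subalgebra.smul_mem _ (one_mem _) c

/-- An algebraic primitive element of a reduced Hopf algebra has reduced zero locus. -/
theorem coeff_one_ne_zero [IsReduced C] [Nontrivial C] {z : C} (hint : IsIntegral k z)
    (h0 : (minpoly k z).coeff 0 = 0) : (minpoly k z).coeff 1 ≠ 0 := by
  intro h1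
  set P := minpoly k z with hP
  have hPX : P = X * P.divX := by
    conv_lhs => rw [← X_mul_divX_add P, h0, C_0, add_zero]
  have hG0 : P.divX.coeff 0 = 0 := by rw [coeff_divX]; exact h1
  have hGX : P.divX = X * P.divX.divX := by
    conv_lhs => rw [← X_mul_divX_add P.divX, hG0, C_0, add_zero]
  have hz : aeval z P.divX = 0 := by
    refine IsReduced.eq_zero _ ⟨2, ?_⟩
    have : P.divX ^ 2 = P * P.divX.divX := by
      calc P.divX ^ 2 = (X * P.divX.divX) * P.divX := by rw [sq]; exact congrArg (· * P.divX) hGX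
        _ = (X * P.divX) * P.divX.divX := by ring
        _ = P * P.divX.divX := by rw [← hPX]
    rw [← map_pow, this, map_mul, hP, minpoly.aeval, zero_mul]
  have hne : P.divX ≠ 0 := fun h => minpoly.ne_zero hint (by rw [← hP, hPX, h, mul_zero])
  have hdeg : P.natDegree ≤ P.divX.natDegree := natDegree_le_of_dvd (minpoly.dvd k z hz) hne
  rw [hPX, natDegree_mul X_ne_zero hne, natDegree_X] at hdeg
  rw [← hPX] at hdeg
  omega

theorem isRadical_span_of_isIntegral [IsReduced C] [Nontrivial C] {z : C} (hint : IsIntegral k z)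
    (h0 : (minpoly k z).coeff 0 = 0) : (Ideal.span {z}).IsRadical := by
  set P := minpoly k z with hP
  have h1 := coeff_one_ne_zero hint h0
  rintro x ⟨N, hN⟩
  obtain ⟨c, hc⟩ := Ideal.mem_span_singleton'.1 hN
  have hPX : P = X * P.divX := by
    conv_lhs => rw [← X_mul_divX_add P, hP, h0, C_0, add_zero]
  have hzG : z * aeval z P.divX = 0 := by
    have := minpoly.aeval k z
    rw [← hP, hPX, map_mul, aeval_X] at this
    exact this
  have hxG : x * aeval z P.divX = 0 := by
    refine IsReduced.eq_zero _ ⟨N + 1, ?_⟩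
    have : x ^ N * aeval z P.divX = 0 := by rw [← hc, mul_assoc, hzG, mul_zero]
    calc (x * aeval z P.divX) ^ (N + 1) = x ^ N * aeval z P.divX * (x * aeval z P.divX ^ N) := by ring
      _ = 0 := by rw [this, zero_mul]
  have hsplit : aeval z P.divX = z * aeval z P.divX.divX + algebraMap k C (P.coeff 1) := by
    conv_lhs => rw [← X_mul_divX_add P.divX]
    rw [map_add, map_mul, aeval_X, aeval_C, coeff_divX]
  rw [hsplit, mul_add] at hxG
  refine Ideal.mem_span_singleton'.2 ⟨- (algebraMap k C (P.coeff 1)⁻¹ * (x * aeval z P.divX.divX)), ?_⟩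
  have hu : algebraMap k C (P.coeff 1)⁻¹ * algebraMap k C (P.coeff 1) = 1 := by
    rw [← map_mul, inv_mul_cancel₀ h1, map_one]
  linear_combination (- algebraMap k C (P.coeff 1)⁻¹) * hxG + x * hu

/-- A transcendental primitive element is a nonzerodivisor. -/
theorem eq_zero_of_mul_prim {z : C} (hz : CoalgebraStruct.comul (R := k) z = z ⊗ₜ[k] 1 + 1 ⊗ₜ[k] z)
    (hint : ¬ IsIntegral k z) {x : C} (hx : z * x = 0) : x = 0 := by
  set R := Algebra.adjoin k (insert z ((⊥ : Subalgebra k C) : Set C))
  haveI := (isSub_adjoin_prim hz ⊥ isSub_bot).faithfullyFlat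
  have hle : R ≤ (aeval (R := k) z).range := by
    refine Algebra.adjoin_le ?_
    rintro r (rfl | hr)
    · exact ⟨X, aeval_X _⟩
    · exact bot_le (α := Subalgebra k C) hr
  let zR : R := ⟨z, Algebra.subset_adjoin (Set.mem_insert _ _)⟩
  have hreg : IsSMulRegular R zR := by
    refine isSMulRegular_iff_right_eq_zero_of_smul.2 fun r hr => ?_
    obtain ⟨f, hf⟩ := hle r.2
    have h2 : z * (r : C) = 0 := congrArg Subtype.val hr
    rw [← show aeval z f = (r : C) from hf] at h2
    have h3 : X * f = 0 := by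
      by_contra hne
      exact hint (isAlgebraic_iff_isIntegral.1 ⟨X * f, hne, by rw [map_mul, aeval_X, h2]⟩)
    rcases mul_eq_zero.1 h3 with h | h
    · exact absurd h X_ne_zero
    · exact Subtype.ext (hf.symm.trans (by rw [h, map_zero]; rfl))
  have hC : IsSMulRegular C (algebraMap R C zR) := IsSMulRegular.of_flat hreg
  exact hC (show z * x = z * 0 by rw [hx, mul_zero])

variable (p : ℕ) [Fact p.Prime] [CharP k p] [IsAlgClosed k]

/-- Subsets of the kernel of Frobenius. -/
theorem isRadical_span_of_not_mem_powAlg [IsReduced C] [Algebra.FiniteType k C] {z : C}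
    (hz : CoalgebraStruct.comul (R := k) z = z ⊗ₜ[k] 1 + 1 ⊗ₜ[k] z) (hzp : z ∉ HopfFlat.powAlg k p C 1) :
    (Ideal.span {z}).IsRadical := by
  classical
  set R₀ := HopfFlat.powAlg k p C 1 with hR₀
  have hsub : HopfFlat.IsSub R₀ := HopfFlat.isSub_powAlg
  haveI := hsub.isHopfIdeal
  haveI : Nontrivial C := Bialgebra.nontrivial k
  haveI := HopfFlat.charP_of_bialgebra k p C
  haveI : Nontrivial (C ⧸ HopfFlat.augJ R₀) := Bialgebra.nontrivial k
  haveI := HopfFlat.charP_of_bialgebra k p (C ⧸ HopfFlat.augJ R₀)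
  set J := HopfFlat.augJ R₀ with hJ
  let q : C →ₐ[k] C ⧸ J := Ideal.Quotient.mkₐ k J
  set zb := q z with hzb
  have hp : p.Prime := Fact.out
  have hεz : CoalgebraStruct.counit (R := k) z = 0 := by
    have h := congrArg (TensorProduct.lid k C) (Coalgebra.rTensor_counit_comul (R := k) z)
    rw [hz, map_add, map_add, LinearMap.rTensor_tmul, LinearMap.rTensor_tmul, TensorProduct.lid_tmul,
      TensorProduct.lid_tmul, TensorProduct.lid_tmul, Bialgebra.counit_one, one_smul, add_eq_right] at h
    have h2 := congrArg (CoalgebraStruct.counit (R := k)) h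
    rwa [map_smul, Bialgebra.counit_one, smul_eq_mul, mul_one, map_zero] at h2
  have hzbp : zb ^ p = 0 := by
    rw [hzb, ← map_pow]
    refine Ideal.Quotient.eq_zero_iff_mem.2 (Ideal.subset_span ⟨HopfFlat.mem_powAlg.2 ⟨z, by rw [pow_one]⟩, ?_⟩)
    show Bialgebra.counitAlgHom k C (z ^ p) = 0
    rw [map_pow, show Bialgebra.counitAlgHom k C z = 0 from hεz, zero_pow hp.ne_zero]
  have hzb0 : zb ≠ 0 := by
    intro h0
    obtain ⟨C', _, _, j, _, -, hj⟩ := HopfFlat.exists_hopf_powAlg (k := k) (p := p) (B := C) (r := 1)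
    have hmem := Unip23.mem_range_of_coinvariant j J (Ideal.span_le.2 fun a ha => ?_) (b := z) (by
      rw [hz, map_add, LinearMap.lTensor_tmul, LinearMap.lTensor_tmul]
      simp only [AlgHom.toLinearMap_apply, map_one]
      show z ⊗ₜ[k] (1 : C ⧸ J) + 1 ⊗ₜ[k] zb = _
      rw [h0, TensorProduct.tmul_zero, add_zero])
    · obtain ⟨x, hx⟩ := hmem
      exact hzp ((hj z).2 ⟨x, hx⟩)
    · obtain ⟨x, rfl⟩ := (hj a).1 ha.1
      refine Ideal.mem_map_of_mem (j : C' →+* C) ?_
      show CoalgebraStruct.counit (R := k) x = 0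
      rw [← CoalgHomClass.counit_comp_apply j x]
      exact ha.2
  have hΔzb : Bialgebra.comulAlgHom k (C ⧸ J) zb = zb ⊗ₜ[k] 1 + 1 ⊗ₜ[k] zb := by
    show CoalgebraStruct.comul (R := k) ((Bialgebra.Quotient.mkBialgHom (R := k) J) z) = _
    rw [← CoalgHomClass.map_comp_comul_apply, hz, map_add, TensorProduct.map_tmul, TensorProduct.map_tmul]
    show q z ⊗ₜ[k] q 1 + q 1 ⊗ₜ[k] q z = _
    rw [map_one]
  set m := Nat.find (p := fun n => zb ^ n = 0) ⟨p, hzbp⟩ with hm
  have hm0 : zb ^ m = 0 := Nat.find_spec (p := fun n => zb ^ n = 0) ⟨p, hzbp⟩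
  have hmmin : ∀ n < m, zb ^ n ≠ 0 := fun n hn => Nat.find_min (p := fun n => zb ^ n = 0) ⟨p, hzbp⟩ hn
  have hm2 : 2 ≤ m := by
    by_contra h
    interval_cases hmv : m
    · exact one_ne_zero ((pow_zero zb).symm.trans hm0)
    · exact hzb0 ((pow_one zb).symm.trans hm0)
  have hli : ∀ g : ℕ → k, ∑ i ∈ Finset.range m, g i • zb ^ i = 0 → ∀ i < m, g i = 0 := by
    intro g hg i hi
    induction i using Nat.strong_induction_on with
    | _ i ih =>
      have h := congrArg (zb ^ (m - 1 - i) * ·) hg
      simp only [mul_zero, Finset.mul_sum, mul_smul_comm, ← pow_add] at h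
      rw [Finset.sum_eq_single i (fun j hj hne => by
        rcases lt_or_gt_of_ne hne with hlt | hgt
        · rw [ih j hlt (by omega), zero_smul]
        · rw [show m - 1 - i + j = m + (j - i - 1) by omega, pow_add, hm0, zero_mul, smul_zero])
        (by simp [hi]), show m - 1 - i + i = m - 1 by omega] at h
      exact (smul_eq_zero.1 h).resolve_right (hmmin _ (by omega))
  have hmp : m = p := by
    refine le_antisymm (Nat.find_le hzbp) (not_lt.1 fun hlt => ?_)
    obtain ⟨f, hf1, hf⟩ : ∃ f : (C ⧸ J) →ₗ[k] k, f zb = 1 ∧ ∀ j < m, j ≠ 1 → f (zb ^ j) = 0 := by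
      have hli' : LinearIndependent k fun i : Fin m => zb ^ (i : ℕ) :=
        Fintype.linearIndependent_iff.2 fun g hg i => by
          have := hli (fun j => if h : j < m then g ⟨j, h⟩ else 0) (by
            rw [← Fin.sum_univ_eq_sum_range (fun j => (if h : j < m then g ⟨j, h⟩ else 0) • zb ^ j), ← hg]
            exact Finset.sum_congr rfl fun j _ => by rw [dif_pos j.2]) i i.2
          simpa using this
      obtain ⟨L, hL⟩ := (Finsupp.linearCombination k fun i : Fin m => zb ^ (i : ℕ)).exists_leftInverse_of_injective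
        (LinearMap.ker_eq_bot.2 hli'.finsuppLinearCombination_injective)
      have hval : ∀ j (hj : j < m), L (zb ^ j) = Finsupp.single ⟨j, hj⟩ 1 := fun j hj => by
        have h1 := LinearMap.congr_fun hL (Finsupp.single ⟨j, hj⟩ 1)
        rwa [LinearMap.comp_apply, Finsupp.linearCombination_single, one_smul, LinearMap.id_apply] at h1
      refine ⟨(Finsupp.lapply ⟨1, by omega⟩).comp L, ?_, fun j hj hne => ?_⟩
      · have := hval 1 (by omega)
        rw [pow_one] at this
        simp [this]
      · simp [hval j hj, Finsupp.single_apply, hne]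
    let F := (TensorProduct.lid k (C ⧸ J)).toLinearMap ∘ₗ f.rTensor (C ⧸ J)
    have h := congrArg (fun v => F v) (show Bialgebra.comulAlgHom k (C ⧸ J) (zb ^ m) = 0 by rw [hm0, map_zero])
    simp only [map_pow, hΔzb, add_pow, map_sum, Algebra.TensorProduct.tmul_pow, one_pow,
      Algebra.TensorProduct.tmul_mul_tmul, mul_one, one_mul, map_zero] at h
    rw [Finset.sum_eq_single 1] at h
    · rw [mul_comm (_ ⊗ₜ[k] _) ((m.choose 1 : ℕ) : (C ⧸ J) ⊗[k] (C ⧸ J)), ← nsmul_eq_mul, map_nsmul] at h
      simp only [F, LinearMap.comp_apply, LinearMap.rTensor_tmul, LinearEquiv.coe_coe, TensorProduct.lid_tmul,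
        pow_one, hf1, one_smul, Nat.choose_one_right] at h
      rw [← Nat.cast_smul_eq_nsmul k] at h
      rcases smul_eq_zero.1 h with h | h
      · have := Nat.le_of_dvd (by omega) ((CharP.cast_eq_zero_iff k p m).1 h)
        omega
      · exact hmmin _ (by omega) h
    · intro j hj hne
      rw [mul_comm (_ ⊗ₜ[k] _) ((m.choose j : ℕ) : (C ⧸ J) ⊗[k] (C ⧸ J)), ← nsmul_eq_mul, map_nsmul]
      simp only [F, LinearMap.comp_apply, LinearMap.rTensor_tmul, LinearEquiv.coe_coe, TensorProduct.lid_tmul]
      rcases lt_or_eq_of_le (Nat.lt_succ_iff.1 (Finset.mem_range.1 hj)) with hjm | rfl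
      · rw [hf j hjm hne, zero_smul, smul_zero]
      · rw [hm0, map_zero, zero_smul, smul_zero]
    · intro hn; simp at hn; omega
  -- linear independence over the subalgebra of powers
  have hindep : ∀ N ≤ p, ∀ d : ℕ → C, (∀ i, d i ∈ R₀) → ∑ i ∈ Finset.range N, d i * z ^ i = 0 →
      ∀ i < N, d i = 0 := by
    intro N
    induction N with
    | zero => intro _ _ _ _ i hi; omega
    | succ N ih =>
      intro hN d hd hsum
      let δ : C →ₐ[k] C ⊗[k] (C ⧸ J) :=
        (Algebra.TensorProduct.map (AlgHom.id k C) q).comp (Bialgebra.comulAlgHom k C)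
      have hδd : ∀ i, δ (d i) = d i ⊗ₜ[k] 1 := fun i => hsub.map_id_mk (AlgHom.id k C) (hd i)
      have hδz : δ z = 1 ⊗ₜ[k] zb + z ⊗ₜ[k] 1 := by
        show Algebra.TensorProduct.map (AlgHom.id k C) q (CoalgebraStruct.comul (R := k) z) = _
        rw [hz, map_add, Algebra.TensorProduct.map_tmul, Algebra.TensorProduct.map_tmul, add_comm]
        simp [zb]
      let c : ℕ → C := fun j => ∑ i ∈ Finset.range (N + 1), (i.choose j) • (d i * z ^ (i - j))
      have h1 : ∑ j ∈ Finset.range (N + 1), c j ⊗ₜ[k] (zb ^ j) = 0 := by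
        simp only [c, TensorProduct.sum_tmul]
        rw [Finset.sum_comm]
        refine Eq.trans ?_ ((congrArg δ hsum).trans (map_zero _))
        rw [map_sum]
        refine Finset.sum_congr rfl fun i hi => ?_
        rw [map_mul, map_pow, hδd, hδz, add_pow, Finset.mul_sum]
        refine (Finset.sum_subset (Finset.range_mono (Finset.mem_range.1 hi))
          fun j hj hj' => ?_).symm.trans (Finset.sum_congr rfl fun j _ => ?_)
        · rw [Nat.choose_eq_zero_of_lt (by simp at hj'; omega), zero_smul, TensorProduct.zero_tmul]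
        · rw [Algebra.TensorProduct.tmul_pow, Algebra.TensorProduct.tmul_pow, one_pow, one_pow,
            Algebra.TensorProduct.tmul_mul_tmul, mul_one, one_mul, ← nsmul_eq_mul', mul_smul_comm,
            Algebra.TensorProduct.tmul_mul_tmul, one_mul, ← TensorProduct.smul_tmul']
      have hc := TrigSplit28.coeff_eq_zero_of_sum_tmul (N + 1) _ (fun g hg j hj => by
        have := hli (fun i => if i < N + 1 then g i else 0) (by
          rw [← hg, ← Finset.sum_subset (Finset.range_mono (show N + 1 ≤ m by omega)) (fun i _ hi => by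
            rw [if_neg (by simpa using hi), zero_smul])]
          exact Finset.sum_congr rfl fun i hi => by rw [if_pos (Finset.mem_range.1 hi)]) j (by omega)
        simpa [hj] using this) _ h1 N (Nat.lt_succ_self N)
      have hN0 : d N = 0 := by
        simp only [c] at hc
        rw [Finset.sum_eq_single N (fun i hi hne => by
          rw [Nat.choose_eq_zero_of_lt (by simp at hi; omega), zero_smul]) (by simp)] at hc
        simpa using hc
      intro i hi
      rcases Nat.lt_succ_iff_lt_or_eq.1 hi with h | rfl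
      · exact ih (by omega) d hd (by rwa [Finset.sum_range_succ, hN0, zero_mul, add_zero] at hsum) i h
      · exact hN0
  -- the subalgebra generated by `z`
  set R₁ := Algebra.adjoin k (insert z (R₀ : Set C))
  haveI := (isSub_adjoin_prim hz R₀ hsub).faithfullyFlat
  let zR : R₁ := ⟨z, Algebra.subset_adjoin (Set.mem_insert _ _)⟩
  have hzp0 : z ^ p ∈ R₀ := HopfFlat.mem_powAlg.2 ⟨z, by rw [pow_one]⟩
  have hrep : ∀ r ∈ R₁, ∃ d : ℕ → C, (∀ i, d i ∈ R₀) ∧ r = ∑ i ∈ Finset.range p, d i * z ^ i := by
    intro r hr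
    induction hr using Algebra.adjoin_induction with
    | mem r hr =>
      rcases hr with rfl | hr
      · exact ⟨fun i => if i = 1 then 1 else 0, fun i => by beta_reduce; split_ifs <;> simp,
          by simp [Finset.mem_range, hp.one_lt]⟩
      · exact ⟨fun i => if i = 0 then r else 0, fun i => by beta_reduce; split_ifs <;> simp [show r ∈ R₀ from hr],
          by simp [Finset.mem_range, hp.pos]⟩
    | algebraMap c =>
      exact ⟨fun i => if i = 0 then algebraMap k C c else 0, fun i => by beta_reduce; split_ifs <;> simp [R₀.algebraMap_mem],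
        by simp [Finset.mem_range, hp.pos]⟩
    | add a b _ _ ha hb =>
      obtain ⟨d, hd, rfl⟩ := ha; obtain ⟨e, he, rfl⟩ := hb
      exact ⟨fun i => d i + e i, fun i => add_mem (hd i) (he i), by simp [add_mul, Finset.sum_add_distrib]⟩
    | mul a b _ _ ha hb =>
      obtain ⟨d, hd, rfl⟩ := ha; obtain ⟨e, he, rfl⟩ := hb
      refine ⟨fun l => ∑ i ∈ Finset.range p, ∑ j ∈ Finset.range p,
        ((if i + j = l then d i * e j else 0) + (if i + j = l + p then d i * e j * z ^ p else 0)),
        fun l => sum_mem fun i _ => sum_mem fun j _ => ?_, ?_⟩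
      · refine add_mem ?_ ?_
        · split_ifs
          exacts [mul_mem (hd i) (he j), zero_mem _]
        · split_ifs
          exacts [mul_mem (mul_mem (hd i) (he j)) hzp0, zero_mem _]
      · rw [Finset.sum_mul_sum]
        simp only [Finset.sum_mul, add_mul, ite_mul, zero_mul]
        rw [Finset.sum_comm (s := Finset.range p) (t := Finset.range p)
          (f := fun l i => ∑ j ∈ Finset.range p, _)]
        refine Finset.sum_congr rfl fun i hi => ?_
        rw [Finset.sum_comm]
        refine Finset.sum_congr rfl fun j hj => ?_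
        simp only [Finset.mem_range] at hi hj
        rw [Finset.sum_add_distrib]
        by_cases hlt : i + j < p
        · rw [Finset.sum_ite_eq, if_pos (Finset.mem_range.2 hlt),
            Finset.sum_eq_zero fun l _ => if_neg (by omega), add_zero, pow_add]
          ring
        · rw [Finset.sum_eq_zero fun l hl => if_neg (by simp at hl; omega), zero_add,
            Finset.sum_eq_single (i + j - p) (fun l _ hne => if_neg (by omega)) (by simp; omega),
            if_pos (by omega), mul_assoc (d i * e j), ← pow_add, show p + (i + j - p) = i + j by omega, pow_add]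
          ring
  -- radicality
  have hstep : ∀ x : C, x ^ p ∈ Ideal.span {z} → x ∈ Ideal.span {z} := by
    intro x hx
    have hx1 : x ^ p ∈ R₁ := Algebra.subset_adjoin (Set.mem_insert_of_mem _ (HopfFlat.mem_powAlg.2 ⟨x, by rw [pow_one]⟩))
    have h1 : (⟨x ^ p, hx1⟩ : R₁) ∈ Ideal.span {zR} := by
      rw [← Ideal.comap_map_eq_self_of_faithfullyFlat (B := C) (Ideal.span {zR}), Ideal.mem_comap, Ideal.map_span,
        Set.image_singleton]
      exact hx
    obtain ⟨r, hr⟩ := Ideal.mem_span_singleton'.1 h1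
    obtain ⟨d, hd, hrd⟩ := hrep r r.2
    have h2 : (r : C) * z = x ^ p := congrArg Subtype.val hr
    rw [hrd, Finset.sum_mul] at h2
    obtain ⟨e, he⟩ := HopfFlat.mem_powAlg.1 (hd (p - 1))
    rw [pow_one] at he
    let d' : ℕ → C := fun i => if i = 0 then (e * z) ^ p - x ^ p else d (i - 1)
    have hrel : ∑ i ∈ Finset.range p, d' i * z ^ i = 0 := by
      obtain ⟨p', rfl⟩ : ∃ p', p = p' + 1 := ⟨p - 1, by have := hp.pos; omega⟩
      rw [Finset.sum_range_succ']
      rw [Finset.sum_range_succ] at h2
      simp only [d', Nat.add_one_sub_one, Nat.succ_ne_zero, if_false, if_true, pow_zero, mul_one, Nat.add_sub_cancel] at h2 he ⊢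
      rw [mul_pow, he, ← h2]
      simp only [pow_succ, ← mul_assoc]
      ring
    have h0 := hindep p le_rfl d' (fun i => by
      simp only [d']
      split_ifs
      · exact sub_mem (HopfFlat.mem_powAlg.2 ⟨e * z, by rw [pow_one]⟩) (HopfFlat.mem_powAlg.2 ⟨x, by rw [pow_one]⟩)
      · exact hd _) hrel 0 hp.pos
    simp only [d', if_true] at h0
    have hnil : e * z - x = 0 := IsReduced.eq_zero _ ⟨p, by rw [sub_pow_char, h0]⟩
    exact Ideal.mem_span_singleton'.2 ⟨e, sub_eq_zero.1 hnil⟩
  rintro x ⟨N, hN⟩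
  have hN' : x ^ p ^ N ∈ Ideal.span {z} := by
    obtain ⟨c, hc⟩ := Nat.exists_eq_add_of_le (Nat.lt_pow_self hp.one_lt (n := N)).le
    rw [hc, pow_add]
    exact Ideal.mul_mem_right _ _ hN
  have hdown : ∀ n, x ^ p ^ n ∈ Ideal.span {z} → x ∈ Ideal.span {z} := by
    intro n
    induction n with
    | zero => intro h; simpa using h
    | succ n ih => intro h; exact ih (hstep _ (by rwa [← pow_mul, ← pow_succ]))
  exact hdown N hN'

/-- A root of a primitive element is primitive. -/
theorem exists_prim_root [IsReduced C] [Algebra.FiniteType k C] {z : C}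
    (hz : CoalgebraStruct.comul (R := k) z = z ⊗ₜ[k] 1 + 1 ⊗ₜ[k] z) (hzp : z ∈ HopfFlat.powAlg k p C 1) :
    ∃ w : C, w ^ p = z ∧ CoalgebraStruct.comul (R := k) w = w ⊗ₜ[k] 1 + 1 ⊗ₜ[k] w := by
  classical
  obtain ⟨w, hw⟩ := HopfFlat.mem_powAlg.1 hzp
  rw [pow_one] at hw
  refine ⟨w, hw, sub_eq_zero.1 ?_⟩
  haveI : Nontrivial (C ⊗[k] C) := Bialgebra.nontrivial k
  haveI := HopfFlat.charP_of_bialgebra k p (C ⊗[k] C)
  set X' := CoalgebraStruct.comul (R := k) w - (w ⊗ₜ[k] 1 + 1 ⊗ₜ[k] w) with hX'
  have hX : X' ^ p = 0 := by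
    rw [hX', sub_pow_char, add_pow_char, Algebra.TensorProduct.tmul_pow, Algebra.TensorProduct.tmul_pow, one_pow, hw,
      show CoalgebraStruct.comul (R := k) w ^ p = Bialgebra.comulAlgHom k C (w ^ p) from (map_pow (Bialgebra.comulAlgHom k C) w p).symm, hw]
    show CoalgebraStruct.comul (R := k) z - _ = 0
    rw [hz, sub_self]
  let b := Module.Basis.ofVectorSpace k C
  refine (TensorProduct.equivFinsuppOfBasisRight b).injective (Finsupp.ext fun i => ?_)
  rw [map_zero, Finsupp.zero_apply]
  by_contra hne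
  obtain ⟨g, hg⟩ := HopfFlat.exists_point_ne_zero (k := k) (fun hn => hne (IsReduced.eq_zero _ hn))
  refine hg ?_
  let Φ : C ⊗[k] C →ₐ[k] C :=
    Algebra.TensorProduct.lift ((Algebra.ofId k C).comp g) (AlgHom.id k C) (fun _ _ => Commute.all _ _)
  have hΦ : Φ X' = 0 := IsReduced.eq_zero _ ⟨p, by rw [← map_pow, hX, map_zero]⟩
  have key : ∀ v : C ⊗[k] C, g (TensorProduct.equivFinsuppOfBasisRight b v i) = b.repr (Φ v) i := by
    intro v
    induction v with
    | zero => simp
    | add a c ha hc => simp only [map_add, Finsupp.add_apply, ha, hc]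
    | tmul a c =>
      simp [Φ, mul_comm c, ← Algebra.smul_def]
      ring
  rw [key, hΦ, map_zero, Finsupp.zero_apply]

end Groth.Agent.SectConj28
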