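import Groth.Agent.Lib.SectConj28.Radical
import Groth.Agent.Lib.SectConj28.Lift

/-!
# Choosing a primitive element with reduced zero locus
-/

set_option autoImplicit false
set_option linter.style.haveILetI false

universe u

open TensorProduct Polynomial

noncomputable section

namespace Groth.Agent.SectConj28

variable {k : Type u} [Field k] {C : Type u} [CommRing C] [HopfAlgebra k C]

theorem counit_eq_zero_of_prim {z : C} (hz : CoalgebraStruct.comul (R := k) z = z ⊗ₜ[k] 1 + 1 ⊗ₜ[k] z) :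
    CoalgebraStruct.counit (R := k) z = 0 := by
  have h := congrArg (TensorProduct.lid k C) (Coalgebra.rTensor_counit_comul (R := k) z)
  rw [hz, map_add, map_add, LinearMap.rTensor_tmul, LinearMap.rTensor_tmul, TensorProduct.lid_tmul,
    TensorProduct.lid_tmul, TensorProduct.lid_tmul, Bialgebra.counit_one, one_smul, add_eq_right] at h
  have h2 := congrArg (CoalgebraStruct.counit (R := k)) h
  rwa [map_smul, Bialgebra.counit_one, smul_eq_mul, mul_one, map_zero] at h2

theorem coeff_zero_minpoly {z : C} (hz : CoalgebraStruct.comul (R := k) z = z ⊗ₜ[k] 1 + 1 ⊗ₜ[k] z) :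
    (minpoly k z).coeff 0 = 0 := by
  have h := congrArg (Bialgebra.counitAlgHom k C) (minpoly.aeval k z)
  rw [← Polynomial.aeval_algHom_apply, map_zero,
    show Bialgebra.counitAlgHom k C z = 0 from counit_eq_zero_of_prim hz, ← coeff_zero_eq_aeval_zero] at h
  exact h

set_option maxHeartbeats 1000000 in
/-- Among generators of the primitive elements one has a reduced zero locus. -/
theorem exists_radical_prim [IsAlgClosed k] [IsReduced C] [Algebra.FiniteType k C] (S : Set C)
    (hS : ∀ s ∈ S, CoalgebraStruct.comul (R := k) s = s ⊗ₜ[k] 1 + 1 ⊗ₜ[k] s)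
    (hgen : ∀ w : C, CoalgebraStruct.comul (R := k) w = w ⊗ₜ[k] 1 + 1 ⊗ₜ[k] w → w ∈ Submodule.span k S)
    (hne : ∃ s ∈ S, s ≠ 0) : ∃ s ∈ S, s ≠ 0 ∧ (Ideal.span {s}).IsRadical := by
  classical
  haveI : Nontrivial C := Bialgebra.nontrivial k
  by_cases hint : ∃ s ∈ S, s ≠ 0 ∧ IsIntegral k s
  · obtain ⟨s, hs, h0, hsi⟩ := hint
    exact ⟨s, hs, h0, isRadical_span_of_isIntegral hsi (coeff_zero_minpoly (hS s hs))⟩
  push_neg at hint
  obtain ⟨s₀, hs₀, hs₀0⟩ := hne
  obtain ⟨p, hp⟩ := CharP.exists k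
  rcases CharP.char_is_prime_or_zero k p with hpp | rfl
  swap
  · haveI := CharP.charP_to_charZero k
    haveI : (Ideal.span {s₀}).IsHopfIdeal k :=
      TrigSplit28.isHopfIdeal_span_skew (χ := (1 : C)) ⟨Bialgebra.counit_one, Bialgebra.comul_one⟩
        (by rw [hS s₀ hs₀, add_comm])
    haveI : Algebra.FiniteType k (C ⧸ Ideal.span {s₀}) :=
      Algebra.FiniteType.of_surjective (Ideal.Quotient.mkₐ k _) Ideal.Quotient.mk_surjective
    haveI := HopfRedH28.isReduced_of_charZero k (C ⧸ Ideal.span {s₀})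
    exact ⟨s₀, hs₀, hs₀0, (Ideal.isRadical_iff_quotient_reduced _).2 inferInstance⟩
  haveI : Fact p.Prime := ⟨hpp⟩
  by_cases hpow : ∀ s ∈ S, s ∈ HopfFlat.powAlg k p C 1
  swap
  · push_neg at hpow
    obtain ⟨s, hs, hsp⟩ := hpow
    exact ⟨s, hs, fun h => hsp (h ▸ zero_mem _), isRadical_span_of_not_mem_powAlg p (hS s hs) hsp⟩
  exfalso
  let m : Ideal C := RingHom.ker (Bialgebra.counitAlgHom k C)
  have key : ∀ r : ℕ, ∀ w : C, CoalgebraStruct.comul (R := k) w = w ⊗ₜ[k] 1 + 1 ⊗ₜ[k] w → w ∈ m ^ r := by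
    intro r
    induction r with
    | zero => intro w _; simp
    | succ r ih =>
      intro w hw
      rcases Nat.eq_zero_or_pos r with rfl | hr
      · rw [pow_one]; exact counit_eq_zero_of_prim hw
      refine (Submodule.span_le (p := (m ^ (r + 1)).restrictScalars k)).2 (fun s hs => ?_) (hgen w hw)
      obtain ⟨v, rfl, hv⟩ := exists_prim_root p (hS s hs) (hpow s hs)
      have h1 := Ideal.pow_mem_pow (ih v hv) p
      rw [← pow_mul] at h1
      refine Ideal.pow_le_pow_right ?_ h1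
      calc r + 1 ≤ r * 2 := by omega
        _ ≤ r * p := Nat.mul_le_mul_left r hpp.two_le
  haveI : IsNoetherianRing C := Algebra.FiniteType.isNoetherianRing k C
  have hmem : s₀ ∈ (⨅ i : ℕ, m ^ i • ⊤ : Submodule C C) := by
    simp only [smul_eq_mul, Submodule.mem_iInf]
    intro i
    rw [Ideal.mul_top]
    exact key i s₀ (hS s₀ hs₀)
  obtain ⟨⟨r, hrm⟩, hr⟩ := (Ideal.mem_iInf_smul_pow_eq_bot_iff m s₀).1 hmem
  have h0 := eq_zero_of_mul_prim (hS s₀ hs₀) (hint s₀ hs₀ hs₀0) (x := 1 - r) (by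
    rw [mul_sub, mul_one, mul_comm, ← smul_eq_mul]
    simp only at hr
    rw [hr, sub_self])
  rw [← sub_eq_zero.1 h0] at hrm
  exact one_ne_zero ((map_one (Bialgebra.counitAlgHom k C)).symm.trans hrm)

end Groth.Agent.SectConj28
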